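import Groth.Agent.L23.BigCech.Cartan
import Groth.Agent.L23.AdeqSite.CechGeom

/-!
# Adequate modules are acyclic on affine schemes
-/

universe u

open CategoryTheory Limits Opposite AlgebraicGeometry Simplicial

set_option backward.isDefEq.respectTransparency.types false
set_option linter.style.haveILetI false

namespace Groth.L23.BigCech

open Groth.L23.Adq _root_.Adeq
open Groth.L28.ProEt.Cech (d d_apply d_natural Acyclic)
open Groth.L10 (Nerve.N Nerve.δ Nerve.pr Nerve.bs Nerve.pr_w Nerve.δ_pr Nerve.δ_bs)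

noncomputable section

variable {X : Scheme.{u}}

local notation "Kf" => Scheme.fppfPrecoverage

variable {R : CommRingCat.{u}} (c : Spec R ⟶ X) (B : Type u) [CommRing B] [Algebra R B]

/-- The powers, over `X`. -/
abbrev pImg (n : ℕ) : Over X := (Over.map c).obj ((cPow R B) _⦋n⦌)

/-- The legs of a power. -/
def pLeg (n : ℕ) (i : Fin (n + 1)) : pImg c B n ⟶ vObj c B :=
  Over.homMk (V := Over.mk (Spec.map (CommRingCat.ofHom (algebraMap R B)) ≫ c)) (cπ R B n i).left
    ((Category.assoc _ _ _).symm.trans (congrArg (· ≫ c) (Over.w (cπ R B n i))))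

/-- The base of a power. -/
def pBase (n : ℕ) : pImg c B n ⟶ Over.mk c :=
  Over.homMk (U := (Over.map c).obj ((cPow R B) _⦋n⦌)) (V := Over.mk c) ((cPow R B) _⦋n⦌).hom rfl

theorem pLeg_hom (n : ℕ) (i : Fin (n + 1)) : pLeg c B n i ≫ cHom c B = pBase c B n :=
  Over.OverMorphism.ext (Over.w (cπ R B n i))

/-- From a power to the nerve. -/
def pNu (n : ℕ) : pImg c B n ⟶ Nerve.N (cHom c B) n :=
  WidePullback.lift (pBase c B n) (pLeg c B n) (pLeg_hom c B n)

theorem pNu_pr (n : ℕ) (i : Fin (n + 1)) : pNu c B n ≫ Nerve.pr (cHom c B) i = pLeg c B n i :=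
  WidePullback.lift_π _ _ _ _ _

theorem bs_left_hom (n : ℕ) (i : Fin (n + 1)) :
    (Nerve.pr (cHom c B) i).left ≫ Spec.map (CommRingCat.ofHom (algebraMap R B)) = (Nerve.bs (cHom c B) n).left :=
  congrArg (fun k => Over.Hom.left k) (Nerve.pr_w (cHom c B) i)

/-- The nerve as an object over the affine base. -/
abbrev nObj (n : ℕ) : Over (Spec R) := Over.mk (Nerve.bs (cHom c B) n).left

/-- From the nerve to a power, over the affine base. -/
def pMu₀ (n : ℕ) : nObj c B n ⟶ (cPow R B) _⦋n⦌ :=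
  cLift R B n fun i => Over.homMk (U := nObj c B n) (V := cU R B) (Nerve.pr (cHom c B) i).left (bs_left_hom c B n i)

/-- From the nerve to a power. -/
def pMu (n : ℕ) : Nerve.N (cHom c B) n ⟶ pImg c B n :=
  Over.homMk (pMu₀ c B n).left ((Category.assoc _ _ _).symm.trans
    ((congrArg (· ≫ c) (Over.w (pMu₀ c B n))).trans (Over.w (Nerve.bs (cHom c B) n))))

theorem pMu_leg (n : ℕ) (i : Fin (n + 1)) : pMu c B n ≫ pLeg c B n i = Nerve.pr (cHom c B) i := by
  refine Over.OverMorphism.ext ?_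
  have h := congrArg (fun k => Over.Hom.left k) (cLift_π R B n (W := nObj c B n)
    (fun i => Over.homMk (U := nObj c B n) (V := cU R B) (Nerve.pr (cHom c B) i).left (bs_left_hom c B n i)) i)
  exact h

theorem pMu_pNu (n : ℕ) : pMu c B n ≫ pNu c B n = 𝟙 _ :=
  Groth.L10.Nerve.hom_ext (cHom c B) fun i => by rw [Category.assoc, pNu_pr, pMu_leg, Category.id_comp]

theorem pImg_hom_ext {W : Over X} (n : ℕ) (f g : W ⟶ pImg c B n) (h : ∀ i, f ≫ pLeg c B n i = g ≫ pLeg c B n i) :
    f = g := by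
  have hb : f.left ≫ ((cPow R B) _⦋n⦌).hom = g.left ≫ ((cPow R B) _⦋n⦌).hom := by
    have h0 := congrArg (fun k => Over.Hom.left k) (congrArg (· ≫ cHom c B) (h 0))
    simp only [Category.assoc, pLeg_hom] at h0
    exact h0
  let W₀ : Over (Spec R) := Over.mk (f.left ≫ ((cPow R B) _⦋n⦌).hom)
  let f₀ : W₀ ⟶ (cPow R B) _⦋n⦌ := Over.homMk f.left rfl
  let g₀ : W₀ ⟶ (cPow R B) _⦋n⦌ := Over.homMk g.left hb.symm
  have he : f₀ = g₀ := cPow_hom_ext R B n f₀ g₀ fun i => Over.OverMorphism.ext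
    (congrArg (fun k : W ⟶ vObj c B => k.left) (h i))
  exact Over.OverMorphism.ext (congrArg (fun k : W₀ ⟶ (cPow R B) _⦋n⦌ => k.left) he)

theorem pNu_pMu (n : ℕ) : pNu c B n ≫ pMu c B n = 𝟙 _ :=
  pImg_hom_ext c B n _ _ fun i => by rw [Category.assoc, pMu_leg, pNu_pr, Category.id_comp]

theorem pNu_δ (n : ℕ) (j : Fin (n + 2)) :
    pNu c B (n + 1) ≫ Nerve.δ (cHom c B) j = (Over.map c).map ((cPow R B).δ j) ≫ pNu c B n := by
  refine Groth.L10.Nerve.hom_ext (cHom c B) fun i => ?_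
  rw [Category.assoc, Nerve.δ_pr, pNu_pr, Category.assoc, pNu_pr]
  exact Over.OverMorphism.ext (congrArg (fun k => Over.Hom.left k) (cπ_δ R B n j i)).symm

theorem isAffine_nerve (n : ℕ) : IsAffine (Nerve.N (cHom c B) n).left := by
  haveI : IsAffine (pImg c B n).left := isAffine_cPow R B n
  haveI : IsIso (pMu c B n) := ⟨pNu c B n, pMu_pNu c B n, pNu_pMu c B n⟩
  haveI : IsIso (pMu c B n).left := inferInstanceAs (IsIso ((Over.forget X).map (pMu c B n)))
  exact IsAffine.of_isIso (pMu c B n).left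

theorem acyc_adequate (M : BigSite.Mod Kf X) (hM : adequateMod Kf X M) :
    Acyc ((BigSite.toAbMod Kf X).obj M) := by
  intro R c B _ _ _ _ n x hx
  let F := (BigSite.toAbMod Kf X).obj M
  obtain ⟨e⟩ := nonempty_emb (fppf_adequate_toMVF hM c)
  let τ : ∀ m, F.obj.obj (op (Nerve.N (cHom c B) m)) →
      (valMod ((toMVF Kf c).obj M)).obj ((cAlg R B) ^⦋m⦌) := fun m y =>
    rs F (affObjIso R c ((cPow R B).obj (op ⦋m⦌))).inv (rs F (pNu c B m) y)
  have hτδ : ∀ m (j : Fin (m + 2)) y, dlt (cAlg R B) ((toMVF Kf c).obj M) j (τ m y) =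
      τ (m + 1) (rs F (Nerve.δ (cHom c B) j) y) := by
    intro m j y
    show rs F (soMap c (algΓMap ((cPow R B).δ j))) (rs F _ (rs F _ y)) = rs F _ (rs F _ (rs F _ y))
    rw [← rs_comp, ← rs_comp, ← rs_comp, ← rs_comp]
    refine congrArg (fun t => rs F t y) ?_
    refine Eq.trans ?_ (((Category.assoc _ _ _).trans (congrArg (_ ≫ ·) (pNu_δ c B m j))).trans
      (Category.assoc _ _ _).symm).symm
    refine ((Category.assoc _ _ _).symm).trans (congrArg (· ≫ pNu c B m) ?_)
    exact Over.OverMorphism.ext (algΓMap_spec ((cPow R B).δ j))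
  have hτ : ∀ m, Function.Bijective (τ m) := fun m => Function.bijective_iff_has_inverse.2
    ⟨fun y => rs F (pMu c B m) (rs F (affObjIso R c ((cPow R B).obj (op ⦋m⦌))).hom y),
      fun y => by
        show rs F _ (rs F _ (rs F _ (rs F _ y))) = y
        rw [← rs_comp, ← rs_comp, ← rs_comp]
        refine (congrArg (fun t => rs F t y) ?_).trans (rs_id F y)
        exact (Category.assoc _ _ _).trans ((Category.assoc _ _ _).trans ((congrArg (pMu c B m ≫ ·)
          (Iso.hom_inv_id_assoc _ _)).trans (pMu_pNu c B m))),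
      fun y => by
        show rs F _ (rs F _ (rs F _ (rs F _ y))) = y
        rw [← rs_comp, ← rs_comp, ← rs_comp]
        refine (congrArg (fun t => rs F t y) ?_).trans (rs_id F y)
        exact (congrArg (· ≫ _) ((Category.assoc _ _ _).trans ((congrArg (_ ≫ ·) (pNu_pMu c B m)).trans
          (Category.comp_id _)))).trans (Iso.inv_hom_id _)⟩
  have hτ0 : ∀ m, τ m 0 = 0 := fun m => by
    show rs F _ (rs F _ 0) = 0
    rw [map_zero, map_zero]
  have hτd : ∀ m y, τ (m + 1) (d (cHom c B) F.obj m y) =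
      ∑ j : Fin (m + 2), ((-1 : ℤ) ^ (j : ℕ)) • dlt (cAlg R B) ((toMVF Kf c).obj M) j (τ m y) := by
    intro m y
    rw [d_apply]
    simp only [hτδ]
    show rs F _ (rs F _ _) = _
    rw [map_sum, map_sum]
    refine Finset.sum_congr rfl fun j _ => ?_
    rw [map_zsmul, map_zsmul]
    rfl
  obtain ⟨w, hw⟩ := exact_valMod (cAlg R B) B e (cVertex R B) (cVertex_δ R B) (cAlg_bijective R B) n (τ (n + 1) x)
    (by rw [← hτd, hx, hτ0])
  obtain ⟨y, rfl⟩ := (hτ n).2 w
  exact ⟨y, (hτ (n + 1)).1 ((hτd n y).trans hw)⟩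

theorem subsingleton_H_adequate [IsAffine X] (M : BigSite.Mod Kf X) (hM : adequateMod Kf X M) (q : ℕ) :
    Subsingleton (BigSite.H Kf X ((BigSite.toAbMod Kf X).obj M) (q + 1)) :=
  subsingleton_H_of_acyc (fun _ c B _ _ n => isAffine_nerve c B n) _ (acyc_adequate M hM) q

theorem subsingleton_HU_adequate {S : Scheme.{u}} (M : BigSite.Mod Kf S) (hM : adequateMod Kf S M) (U : Over S)
    [IsAffine U.left] (q : ℕ) (hq : 0 < q) :
    Subsingleton (BigSite.HU Kf ((BigSite.toAbMod Kf S).obj M) q U) := by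
  obtain ⟨k, rfl⟩ : ∃ k, q = k + 1 := ⟨q - 1, by omega⟩
  exact subsingleton_H_adequate ((BigSite.pullMod Kf U.hom).obj M) (fppf_adequateMod_pull U.hom hM) k

end

end Groth.L23.BigCech
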