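import Groth.Agent.L23.BigCech.Product
import Groth.Agent.L23.AdeqSite.Sheafify
import Groth.Agent.L28.ProEt.Cech.Basic
import Groth.Prelude.Def_BigSite
import Mathlib.Algebra.Homology.DerivedCategory.Ext.ExactSequences
import Mathlib.CategoryTheory.Sites.EpiMono

/-!
# Cartan's criterion on the big fppf site of a scheme, for affine objects
-/

universe u

open CategoryTheory Limits Opposite AlgebraicGeometry CategoryTheory.Abelian

set_option backward.isDefEq.respectTransparency.types false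
set_option linter.style.haveILetI false

namespace Groth.L23.BigCech

open Groth.L23.Adq _root_.Adeq
open Groth.L28.ProEt.Cech (d d_apply d_natural Acyclic exact_dF fpVal_dF fpVal_desc acyclic_of_injective)
open Groth.L10 (Nerve.N Nerve.δ Nerve.pr Nerve.bs Nerve.pr_w Nerve.δ_pr Nerve.δ_bs)

noncomputable section

theorem nerve_d_d {C : Type*} [Category.{u} C] [HasFiniteWidePullbacks C] {V U : C} (p : V ⟶ U)
    (P : Cᵒᵖ ⥤ AddCommGrpCat.{u + 1}) (n : ℕ) (x : P.obj (op (Nerve.N p n))) :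
    d p P (n + 1) (d p P n x) = 0 := by
  obtain ⟨h, -⟩ := exact_dF.{u + 1} p n
  rw [← fpVal_desc.{u + 1} P x, ← fpVal_dF, ← fpVal_dF, ← Category.assoc, h, zero_comp]
  rfl

variable {X : Scheme.{u}}

local notation "Kf" => Scheme.fppfPrecoverage

instance : HasFiniteWidePullbacks (Over X) :=
  hasFiniteWidePullbacks_of_hasFiniteLimits _

variable {R : CommRingCat.{u}} (c : Spec R ⟶ X) (B : Type u) [CommRing B] [Algebra R B]

/-- The covering object of an algebra. -/
abbrev vObj : Over X := (specOver c).obj (op (algOf R B))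

/-- The covering map of an algebra. -/
def cHom : vObj c B ⟶ Over.mk c :=
  Over.homMk (U := Over.mk (Spec.map (CommRingCat.ofHom (algebraMap R B)) ≫ c)) (V := Over.mk c)
    (Spec.map (CommRingCat.ofHom (algebraMap R B))) rfl

/-- Čech acyclicity for affine coverings of affine objects, with affine terms. -/
def Acyc (F : BigSite.Ab Kf X) : Prop :=
  ∀ (R : CommRingCat.{u}) (c : Spec R ⟶ X) (B : Type u) [CommRing B] [Algebra R B] [Module.FaithfullyFlat R B],
    FP (Spec.map (CommRingCat.ofHom (algebraMap R B))) → Acyclic (cHom c B) F.obj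

theorem acyc_of_injective (F : BigSite.Ab Kf X) [Injective F] : Acyc F := by
  intro R c B _ _ _ _
  haveI : Injective F.obj := Injective.injective_of_adjoint (sheafificationAdjunction _ AddCommGrpCat.{u + 1}) F
  exact acyclic_of_injective.{u + 1} (cHom c B) F.obj

section Sections

variable {S : ShortComplex (BigSite.Ab Kf X)} (hS : S.ShortExact)

include hS in
theorem sections_injective (U : Over X) : Function.Injective (S.f.hom.app (op U)) := by
  have := hS.mono_f
  have : Mono ((sheafToPresheaf (QuotSh.J Kf X) AddCommGrpCat.{u + 1}).map S.f) := inferInstance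
  exact (AddCommGrpCat.mono_iff_injective _).1 ((NatTrans.mono_iff_mono_app _).1 this (op U))

include hS in
theorem sections_exact (U : Over X) (x : S.X₂.obj.obj (op U)) (hx : S.g.hom.app (op U) x = 0) :
    ∃ y, S.f.hom.app (op U) y = x := by
  have h := (hS.exact.map_of_mono_of_preservesKernel
    (sheafToPresheaf (QuotSh.J Kf X) AddCommGrpCat.{u + 1} ⋙ (evaluation _ _).obj (op U)) hS.mono_f inferInstance)
  rw [ShortComplex.ab_exact_iff] at h
  exact h x hx

theorem f_g_apply (U : Over X) (y : S.X₁.obj.obj (op U)) : S.g.hom.app (op U) (S.f.hom.app (op U) y) = 0 :=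
  ConcreteCategory.congr_hom (congrArg (fun k => k.hom.app (op U)) S.zero) y

include hS in
theorem surjective_spec (h₁ : Acyc S.X₁) : Function.Surjective (S.g.hom.app (op (Over.mk c))) := by
  classical
  intro x
  haveI := hS.epi_g
  have hloc : Sheaf.IsLocallySurjective S.g := (Sheaf.isLocallySurjective_iff_epi' _ S.g).2 inferInstance
  let η : base c ⟶ Over.mk c :=
    Over.homMk (U := Over.mk (Spec.map (CommRingCat.ofHom (RingHom.id R)) ≫ c))
      (Spec.map (CommRingCat.ofHom (RingHom.id R))) rfl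
  obtain ⟨κ, hκ, C, _, _, hP, hflat, -, hcomap, hV⟩ := exists_finite_refinement c _
    ((QuotSh.J Kf X).pullback_stable η (hloc.imageSieve_mem x))
  haveI := faithfullyFlat_pi C hflat hcomap
  have hfp : ∀ k, FP (Spec.map (CommRingCat.ofHom (algebraMap R (C k)))) := hP
  have hB : FP (Spec.map (CommRingCat.ofHom (algebraMap R (∀ k, C k)))) := fp_pi C hfp
  let p := cHom c (∀ k, C k)
  let V := fun k => (specOver c).obj (op (algOf R (C k)))
  let i : ∀ k, V k ⟶ vObj c (∀ k, C k) := fun k => soMap c (CommAlgCat.ofHom (Pi.evalAlgHom R C k))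
  have hi : ∀ k, (i k).left = piIncl C k := fun _ => rfl
  have hip : ∀ k, i k ≫ p = prMor c (C k) ≫ η := fun k => Over.OverMorphism.ext (by
    show piIncl C k ≫ Spec.map (CommRingCat.ofHom (algebraMap R (∀ k, C k))) =
      Spec.map (CommRingCat.ofHom (algebraMap R (C k))) ≫ Spec.map (CommRingCat.ofHom (RingHom.id R))
    rw [← Spec.map_comp, ← Spec.map_comp]
    rfl)
  choose z hz using hV
  obtain ⟨w, hw⟩ := exists_glue_ab S.X₂ V i (fun k => fp_of_open (piIncl C k)) (piIncl_surj C) z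
    fun k l W a b hab => by
      have hab' : a.left ≫ piIncl C k = b.left ≫ piIncl C l := congrArg Over.Hom.left hab
      by_cases hkl : k = l
      · subst hkl
        rw [Over.OverMorphism.ext ((cancel_mono (piIncl C k)).1 hab')]
      · haveI : IsEmpty W.left := ⟨fun t => piIncl_disjoint C hkl (a.left t) (b.left t)
          ((Scheme.Hom.comp_apply a.left (piIncl C k) t).symm.trans
            ((congrArg (fun g => g t) hab').trans (Scheme.Hom.comp_apply b.left (piIncl C l) t)))⟩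
        exact eq_of_isEmpty S.X₂ _ _
  have hgw : S.g.hom.app _ w = rs S.X₃ p x :=
    eq_of_rs_eq S.X₃ V i (fun k => fp_of_open (piIncl C k)) (piIncl_surj C) _ _ fun k => by
      rw [← rs_natural, hw, ← rs_comp, hip]
      exact hz k
  -- correction
  let σ : vObj c (∀ k, C k) ⟶ Nerve.N p 0 := WidePullback.lift p (fun _ => 𝟙 _) fun _ => Category.id_comp _
  have hσ : σ ≫ Nerve.pr p (0 : Fin 1) = 𝟙 _ := WidePullback.lift_π _ _ _ _ _
  have hσ' : Nerve.pr p (0 : Fin 1) ≫ σ = 𝟙 _ := Groth.L10.Nerve.hom_ext p fun j => by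
    rw [Category.assoc, show σ ≫ Nerve.pr p j = 𝟙 _ from WidePullback.lift_π _ _ _ _ _, Category.id_comp,
      Category.comp_id]
    exact congrArg (Nerve.pr p) (Fin.eq_zero j).symm
  let s₀ := rs S.X₂ (Nerve.pr p (0 : Fin 1)) w
  obtain ⟨a, ha⟩ := sections_exact hS (Nerve.N p 1) (d p S.X₂.obj 0 s₀) (by
    refine (d_natural p S.g.hom 0 s₀).trans ?_
    rw [rs_natural, hgw, ← rs_comp, Nerve.pr_w, d_apply, Fin.sum_univ_two]
    show ((-1 : ℤ) ^ 0) • rs S.X₃ (Nerve.δ p 0) (rs S.X₃ (Nerve.bs p 0) x) +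
      ((-1 : ℤ) ^ 1) • rs S.X₃ (Nerve.δ p 1) (rs S.X₃ (Nerve.bs p 0) x) = 0
    rw [← rs_comp, ← rs_comp, Nerve.δ_bs, Nerve.δ_bs]
    simp)
  obtain ⟨y, hy⟩ := h₁ R c (∀ k, C k) hB 0 a (sections_injective hS _ (by
    rw [map_zero]
    exact (d_natural p S.f.hom 1 a).trans ((congrArg (d p S.X₂.obj 1) ha).trans (nerve_d_d p S.X₂.obj 0 s₀))))
  let w' := w - S.f.hom.app _ (rs S.X₁ σ y)
  have hd : d p S.X₂.obj 0 (rs S.X₂ (Nerve.pr p (0 : Fin 1)) w') = 0 := by
    show d p S.X₂.obj 0 (rs S.X₂ (Nerve.pr p (0 : Fin 1)) (w - S.f.hom.app _ (rs S.X₁ σ y))) = 0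
    rw [map_sub, ← rs_natural, ← rs_comp, hσ', rs_id, map_sub, ← d_natural p S.f.hom, hy, ha, sub_self]
  have hflatp : FP p.left := hB
  have hsurj : ∀ t : ↥(Over.mk c).left, ∃ (_ : PUnit.{u + 1}) (y : _), p.left y = t := fun t => by
    obtain ⟨k, y, hy⟩ := hcomap t
    exact ⟨PUnit.unit, piIncl C k y, hy⟩
  obtain ⟨t, ht⟩ := exists_glue_ab S.X₂ (fun _ : PUnit.{u + 1} => vObj c (∀ k, C k)) (fun _ => p)
    (fun _ => hflatp) hsurj (fun _ => w') fun _ _ W g₁ g₂ hg => by
      let l : W ⟶ Nerve.N p 1 := WidePullback.lift (g₁ ≫ p) (fun k : Fin 2 => if k = 0 then g₂ else g₁) fun k => by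
        split_ifs
        · exact hg.symm
        · rfl
      have hl : ∀ k : Fin 2, l ≫ Nerve.pr p k = if k = 0 then g₂ else g₁ := fun k => WidePullback.lift_π _ _ _ _ _
      have e₁ : (l ≫ Nerve.δ p 0) ≫ Nerve.pr p (0 : Fin 1) = g₁ := by
        rw [Category.assoc, Nerve.δ_pr, hl, if_neg (by decide)]
      have e₂ : (l ≫ Nerve.δ p 1) ≫ Nerve.pr p (0 : Fin 1) = g₂ := by
        rw [Category.assoc, Nerve.δ_pr, hl, if_pos (by decide)]
      have h : rs S.X₂ l (d p S.X₂.obj 0 (rs S.X₂ (Nerve.pr p (0 : Fin 1)) w')) = 0 :=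
        (congrArg (rs S.X₂ l) hd).trans (map_zero _)
      rw [d_apply, Fin.sum_univ_two] at h
      change rs S.X₂ l (((-1 : ℤ) ^ 0) • rs S.X₂ (Nerve.δ p 0) (rs S.X₂ (Nerve.pr p (0 : Fin 1)) w') +
        ((-1 : ℤ) ^ 1) • rs S.X₂ (Nerve.δ p 1) (rs S.X₂ (Nerve.pr p (0 : Fin 1)) w')) = 0 at h
      rw [map_add, map_zsmul, map_zsmul, ← rs_comp, ← rs_comp, ← rs_comp, ← rs_comp, e₁, e₂] at h
      simp only [pow_zero, one_smul, pow_one, neg_smul, add_neg_eq_zero] at h
      exact h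
  refine ⟨t, eq_of_rs_eq S.X₃ (fun _ : PUnit.{u + 1} => vObj c (∀ k, C k)) (fun _ => p) (fun _ => hflatp) hsurj _ _
    fun _ => ?_⟩
  rw [← rs_natural, ht PUnit.unit]
  show S.g.hom.app _ (w - S.f.hom.app _ (rs S.X₁ σ y)) = _
  rw [map_sub, hgw, f_g_apply, sub_zero]

include hS in
theorem surjective_affine (h₁ : Acyc S.X₁) (W : Over X) [IsAffine W.left] :
    Function.Surjective (S.g.hom.app (op W)) := by
  intro x
  let e : W ≅ Over.mk (W.left.isoSpec.inv ≫ W.hom) := Over.isoMk W.left.isoSpec (Iso.hom_inv_id_assoc _ _)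
  obtain ⟨y, hy⟩ := surjective_spec (W.left.isoSpec.inv ≫ W.hom) hS h₁ (rs S.X₃ e.inv x)
  refine ⟨rs S.X₂ e.hom y, ?_⟩
  rw [rs_natural, hy, ← rs_comp, e.hom_inv_id, rs_id]

include hS in
theorem acyc_X₃ (hN : ∀ (R : CommRingCat.{u}) (c : Spec R ⟶ X) (B : Type u) [CommRing B] [Algebra R B] (n : ℕ),
      IsAffine (Nerve.N (cHom c B) n).left)
    (h₁ : Acyc S.X₁) (h₂ : Acyc S.X₂) : Acyc S.X₃ := by
  intro R c B _ _ _ hB n x hx
  haveI := hN R c B (n + 1)
  obtain ⟨s, rfl⟩ := surjective_affine hS h₁ (Nerve.N (cHom c B) (n + 1)) x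
  obtain ⟨a, ha⟩ := sections_exact hS _ (d (cHom c B) S.X₂.obj (n + 1) s)
    ((d_natural (cHom c B) S.g.hom (n + 1) s).trans hx)
  obtain ⟨y, hy⟩ := h₁ R c B hB (n + 1) a (sections_injective hS _ (by
    rw [map_zero]
    exact (d_natural (cHom c B) S.f.hom (n + 2) a).trans
      ((congrArg (d (cHom c B) S.X₂.obj (n + 2)) ha).trans (nerve_d_d (cHom c B) S.X₂.obj (n + 1) s))))
  obtain ⟨b, hb⟩ := h₂ R c B hB n (s - S.f.hom.app _ y) (by
    rw [map_sub, sub_eq_zero, ← d_natural (cHom c B) S.f.hom, hy, ha])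
  refine ⟨S.g.hom.app _ b, (d_natural (cHom c B) S.g.hom n b).symm.trans ((congrArg _ hb).trans ?_)⟩
  rw [map_sub, f_g_apply, sub_zero]

end Sections

section Vanishing

/-- Maps out of the constant sheaf are global sections. -/
def constEquiv (F : BigSite.Ab Kf X) :
    ((constantSheaf (QuotSh.J Kf X) AddCommGrpCat.{u + 1}).obj (AddCommGrpCat.of (ULift.{u + 1} ℤ)) ⟶ F) ≃+
      F.obj.obj (op (Over.mk (𝟙 X))) :=
  ((constantSheafAdj (QuotSh.J Kf X) AddCommGrpCat.{u + 1} Over.mkIdTerminal).homAddEquiv _ F).trans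
    (AddCommGrpCat.uliftZMultiplesAddEquiv _)

theorem constEquiv_comp {F G : BigSite.Ab Kf X}
    (g : (constantSheaf (QuotSh.J Kf X) AddCommGrpCat.{u + 1}).obj (AddCommGrpCat.of (ULift.{u + 1} ℤ)) ⟶ F)
    (φ : F ⟶ G) : constEquiv G (g ≫ φ) = φ.hom.app _ (constEquiv F g) := by
  simp [constEquiv, AddEquiv.trans_apply, Adjunction.homAddEquiv_apply, Adjunction.homEquiv_naturality_right]
  rfl

/-- Degree zero cohomology is global sections. -/
def h0Equiv (F : BigSite.Ab Kf X) : BigSite.H Kf X F 0 ≃+ F.obj.obj (op (Over.mk (𝟙 X))) :=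
  Ext.addEquiv₀.trans (constEquiv F)

theorem h0Equiv_comp {F G : BigSite.Ab Kf X} (x : BigSite.H Kf X F 0) (φ : F ⟶ G) :
    h0Equiv G (x.comp (Ext.mk₀ φ) (add_zero 0)) = φ.hom.app _ (h0Equiv F x) := by
  obtain ⟨g, rfl⟩ := (Ext.mk₀_bijective _ _).2 x
  rw [Ext.mk₀_comp_mk₀]
  show constEquiv G (Ext.addEquiv₀ (Ext.mk₀ (g ≫ φ))) = φ.hom.app _ (constEquiv F (Ext.addEquiv₀ (Ext.mk₀ g)))
  have key : ∀ {P : BigSite.Ab Kf X} (h : (constantSheaf (QuotSh.J Kf X) AddCommGrpCat.{u + 1}).obj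
      (AddCommGrpCat.of (ULift.{u + 1} ℤ)) ⟶ P), Ext.addEquiv₀ (Ext.mk₀ h) = h :=
    fun h => Ext.addEquiv₀.apply_eq_iff_eq_symm_apply.2 rfl
  rw [key, key]
  exact constEquiv_comp g φ

theorem subsingleton_H_of_acyc [IsAffine X]
    (hN : ∀ (R : CommRingCat.{u}) (c : Spec R ⟶ X) (B : Type u) [CommRing B] [Algebra R B] (n : ℕ),
      IsAffine (Nerve.N (cHom c B) n).left)
    (F : BigSite.Ab Kf X) (hF : Acyc F) (n : ℕ) : Subsingleton (BigSite.H Kf X F (n + 1)) := by
  induction n generalizing F with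
  | zero =>
    let T : ShortComplex (BigSite.Ab Kf X) :=
      ShortComplex.mk (Injective.ι F) (cokernel.π _) (cokernel.condition _)
    have hT : T.ShortExact := { exact := ShortComplex.exact_cokernel _ }
    refine subsingleton_of_forall_eq 0 fun x => ?_
    obtain ⟨y, rfl⟩ := Ext.covariant_sequence_exact₁ _ hT x (Ext.eq_zero_of_injective _) (zero_add 1)
    haveI : IsAffine (Over.mk (𝟙 X)).left := inferInstanceAs (IsAffine X)
    obtain ⟨s, hs⟩ := surjective_affine hT hF (Over.mk (𝟙 X)) (h0Equiv _ y)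
    have : y = ((h0Equiv T.X₂).symm s).comp (Ext.mk₀ T.g) (add_zero 0) := (h0Equiv _).injective (by
      rw [h0Equiv_comp, AddEquiv.apply_symm_apply, hs])
    rw [this, Ext.comp_assoc_of_second_deg_zero, hT.comp_extClass, Ext.comp_zero]
  | succ n ih =>
    let T : ShortComplex (BigSite.Ab Kf X) :=
      ShortComplex.mk (Injective.ι F) (cokernel.π _) (cokernel.condition _)
    have hT : T.ShortExact := { exact := ShortComplex.exact_cokernel _ }
    refine subsingleton_of_forall_eq 0 fun x => ?_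
    obtain ⟨y, rfl⟩ := Ext.covariant_sequence_exact₁ _ hT x (Ext.eq_zero_of_injective _) (n₀ := n + 1) rfl
    haveI : Subsingleton (BigSite.H Kf X T.X₃ (n + 1)) :=
      ih T.X₃ (acyc_X₃ hT hN hF (acyc_of_injective T.X₂))
    rw [Subsingleton.elim y 0, Ext.zero_comp]

end Vanishing

end

end Groth.L23.BigCech
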