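import Groth.Agent.L23.BigCech.LocalMV
import Groth.Agent.L23.AdeqSite.Colim
import Mathlib.Algebra.Homology.HomologySequence
import Mathlib.AlgebraicGeometry.Morphisms.QuasiCompact
import Mathlib.AlgebraicGeometry.Morphisms.QuasiSeparated

/-!
# Higher direct images of adequate modules on the big fppf site
-/

universe u

open CategoryTheory Limits Opposite AlgebraicGeometry

set_option backward.isDefEq.respectTransparency.types false
set_option linter.style.haveILetI false

namespace Groth.L23.BigCech

open Groth.L23.Adq _root_.Adeq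

noncomputable section

local notation "Kf" => Scheme.fppfPrecoverage

variable {R : CommRingCat.{u}}

/-- A class of module valued functors closed under kernels, cokernels and extensions. -/
structure Good (P : ObjectProperty (MVF R)) : Prop where
  iso : ∀ {F G : MVF R}, (F ≅ G) → P F → P G
  zero : ∀ {F : MVF R}, IsZero F → P F
  ker : ∀ {F G : MVF R} (φ : F ⟶ G), P F → P G → P (kernel φ)
  coker : ∀ {F G : MVF R} (φ : F ⟶ G), P F → P G → P (cokernel φ)
  ext : ∀ (C : ShortComplex (MVF R)), C.ShortExact → P C.X₁ → P C.X₃ → P C.X₂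

open ZeroObject

namespace Good

variable {P : ObjectProperty (MVF R)} (hP : Good P)
include hP

theorem biprod {F G : MVF R} (hF : P F) (hG : P G) : P (F ⊞ G) :=
  hP.ext (ShortComplex.mk (biprod.inl : F ⟶ F ⊞ G) biprod.snd biprod.inl_snd)
    (ShortComplex.Splitting.ofHasBinaryBiproduct F G).shortExact hF hG

/-- The five term criterion. -/
theorem five {A B X C D : MVF R} (p₁ : A ⟶ B) (p₂ : B ⟶ X) (p₃ : X ⟶ C) (p₄ : C ⟶ D) (w₁₂ : p₁ ≫ p₂ = 0)
    (w₂₃ : p₂ ≫ p₃ = 0) (w₃₄ : p₃ ≫ p₄ = 0) (h₁₂ : (ShortComplex.mk p₁ p₂ w₁₂).Exact)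
    (h₂₃ : (ShortComplex.mk p₂ p₃ w₂₃).Exact) (h₃₄ : (ShortComplex.mk p₃ p₄ w₃₄).Exact)
    (hA : P A) (hB : P B) (hC : P C) (hD : P D) : P X := by
  let C₀ : ShortComplex (MVF R) := ShortComplex.mk (cokernel.desc p₁ p₂ w₁₂) p₃
    (by rw [← cancel_epi (cokernel.π p₁), cokernel.π_desc_assoc, w₂₃, comp_zero])
  have h₀ : C₀.Exact := by
    let φ : ShortComplex.mk p₂ p₃ w₂₃ ⟶ C₀ :=
      { τ₁ := cokernel.π p₁, τ₂ := 𝟙 _, τ₃ := 𝟙 _, comm₁₂ := by simp [C₀], comm₂₃ := by simp [C₀] }
    haveI : Epi φ.τ₁ := inferInstanceAs (Epi (cokernel.π p₁))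
    haveI : IsIso φ.τ₂ := inferInstanceAs (IsIso (𝟙 _))
    haveI : Mono φ.τ₃ := inferInstanceAs (Mono (𝟙 _))
    exact (ShortComplex.exact_iff_of_epi_of_isIso_of_mono φ).1 h₂₃
  let C₁ : ShortComplex (MVF R) := ShortComplex.mk (cokernel.desc p₁ p₂ w₁₂) (kernel.lift p₄ p₃ w₃₄)
    (by rw [← cancel_mono (kernel.ι p₄), Category.assoc, kernel.lift_ι, zero_comp]; exact C₀.zero)
  refine hP.ext C₁ ?_ (hP.coker p₁ hA hB) (hP.ker p₄ hC hD)
  refine
    { mono_f := (ShortComplex.exact_iff_mono_cokernel_desc (ShortComplex.mk p₁ p₂ w₁₂)).1 h₁₂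
      epi_g := (ShortComplex.exact_iff_epi_kernel_lift (ShortComplex.mk p₃ p₄ w₃₄)).1 h₃₄
      exact := ?_ }
  let φ : C₁ ⟶ C₀ := { τ₁ := 𝟙 _, τ₂ := 𝟙 _, τ₃ := kernel.ι p₄
                       comm₁₂ := by simp [C₀, C₁], comm₂₃ := by simp [C₀, C₁] }
  haveI : Epi φ.τ₁ := inferInstanceAs (Epi (𝟙 _))
  haveI : IsIso φ.τ₂ := inferInstanceAs (IsIso (𝟙 _))
  haveI : Mono φ.τ₃ := inferInstanceAs (Mono (kernel.ι p₄))
  exact (ShortComplex.exact_iff_of_epi_of_isIso_of_mono φ).2 h₀

theorem homology_X₁ {Sq : ShortComplex (CochainComplex (MVF R) ℕ)} (hS : Sq.ShortExact)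
    (h₂ : ∀ i, P (Sq.X₂.homology i)) (h₃ : ∀ i, P (Sq.X₃.homology i)) (i : ℕ) : P (Sq.X₁.homology i) := by
  cases i with
  | zero =>
    haveI := hS.mono_f
    haveI : Mono (HomologicalComplex.cyclesMap Sq.f 0) := by
      haveI : Mono (Sq.f.f 0) := inferInstanceAs (Mono ((HomologicalComplex.eval _ _ 0).map Sq.f))
      haveI : Mono (HomologicalComplex.cyclesMap Sq.f 0 ≫ Sq.X₂.iCycles 0) := by
        rw [HomologicalComplex.cyclesMap_i]
        infer_instance
      exact mono_of_mono _ (Sq.X₂.iCycles 0)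
    haveI : Mono (HomologicalComplex.homologyMap Sq.f 0) := by
      haveI : Mono (HomologicalComplex.homologyMap Sq.f 0 ≫ Sq.X₂.isoHomologyπ₀.inv) := by
        rw [CochainComplex.isoHomologyπ₀_inv_naturality]
        infer_instance
      exact mono_of_mono _ Sq.X₂.isoHomologyπ₀.inv
    let Z := (0 : MVF R)
    exact hP.five (0 : Z ⟶ Z) (0 : Z ⟶ Sq.X₁.homology 0) (HomologicalComplex.homologyMap Sq.f 0)
      (HomologicalComplex.homologyMap Sq.g 0) comp_zero zero_comp
      (by rw [← HomologicalComplex.homologyMap_comp, Sq.zero, HomologicalComplex.homologyMap_zero])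
      (ShortComplex.exact_of_isZero_X₂ _ (isZero_zero _))
      ((ShortComplex.exact_iff_mono _ rfl).2 ‹_›) (hS.homology_exact₂ 0)
      (hP.zero (isZero_zero _)) (hP.zero (isZero_zero _)) (h₂ 0) (h₃ 0)
  | succ n =>
    exact hP.five _ _ _ _ _ _ _ (hS.homology_exact₃ n (n + 1) rfl) (hS.homology_exact₁ n (n + 1) rfl)
      (hS.homology_exact₂ (n + 1)) (h₂ n) (h₃ n) (h₂ (n + 1)) (h₃ (n + 1))

theorem homology_biprod {F G : CochainComplex (MVF R) ℕ} (i : ℕ) (hF : P (F.homology i)) (hG : P (G.homology i)) :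
    P ((F ⊞ G).homology i) := by
  haveI : PreservesBinaryBiproduct F G (HomologicalComplex.homologyFunctor (MVF R) (ComplexShape.up ℕ) i) :=
    preservesBinaryBiproduct_of_preservesBiproduct _ _ _
  exact hP.iso ((HomologicalComplex.homologyFunctor (MVF R) (ComplexShape.up ℕ) i).mapBiprod F G).symm
    (hP.biprod hF hG)

end Good

theorem good_adequate : Good (adequate R) where
  iso e h := (adequate R).prop_of_iso e h
  zero {F} h := by
    exact (adequate R).prop_of_iso ((isZero_cokernel_of_epi (𝟙 ((underline R).obj (ModuleCat.of R PUnit.{u + 2})))).iso h)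
      (adequate_cokernel _ (adequate_underline _) (adequate_underline _))
  ker := fun φ hF hG => adequate_kernel φ hF hG
  coker := fun φ hF hG => adequate_cokernel φ hF hG
  ext C hC h₁ h₃ := adequate_extension C hC h₁ h₃

/-- Vanishing at the base algebra. -/
def vanish : ObjectProperty (MVF R) := fun F => Subsingleton (F.obj (pt (selfAlg R)))

theorem good_vanish : Good (vanish (R := R)) where
  iso {F G} e h := by
    haveI : Subsingleton (F.obj (pt (selfAlg R))) := h
    exact Function.Injective.subsingleton (f := ap e.inv (selfAlg R))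
      ((mono_iff' e.inv).1 inferInstance (selfAlg R))
  zero {F} h := by
    refine subsingleton_of_forall_eq 0 fun x => ?_
    exact (ap_congr (h.eq_of_src (𝟙 F) 0) (selfAlg R) x)
  ker {F G} φ hF _ := by
    haveI : Subsingleton (F.obj (pt (selfAlg R))) := hF
    exact Function.Injective.subsingleton (f := ap (kernel.ι φ) (selfAlg R))
      ((mono_iff' (kernel.ι φ)).1 inferInstance (selfAlg R))
  coker {F G} φ _ hG := by
    haveI : Subsingleton (G.obj (pt (selfAlg R))) := hG
    exact Function.Surjective.subsingleton (f := ap (cokernel.π φ) (selfAlg R))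
      ((epi_iff' (cokernel.π φ)).1 inferInstance (selfAlg R))
  ext C hC h₁ h₃ := by
    haveI : Subsingleton (C.X₁.obj (pt (selfAlg R))) := h₁
    haveI : Subsingleton (C.X₃.obj (pt (selfAlg R))) := h₃
    refine subsingleton_of_forall_eq 0 fun x => ?_
    haveI := hC.mono_f
    obtain ⟨k, rfl⟩ := exists_kernel C.g (selfAlg R) x (Subsingleton.elim _ _)
    rw [← ap_congr (hC.exact.lift_f (kernel.ι C.g) (kernel.condition C.g)) (selfAlg R) k]
    show ap C.f (selfAlg R) (ap (hC.exact.lift (kernel.ι C.g) (kernel.condition C.g)) (selfAlg R) k) = 0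
    rw [Subsingleton.elim (ap (hC.exact.lift (kernel.ι C.g) (kernel.condition C.g)) (selfAlg R) k) 0, map_zero]

variable {S T : Scheme.{u}} (f : T ⟶ S) (a : Spec R ⟶ S) {M : BigSite.Mod Kf T} (Res : InjectiveResolution M)

theorem secCx_exactAt (hA : Acyc ((BigSite.toAbMod Kf T).obj M)) {W : (pullback a f).Opens} (hW : IsAffineOpen W)
    (n : ℕ) : (secCx f a Res W).ExactAt (n + 1) := by
  rw [HomologicalComplex.exactAt_iff' _ n (n + 1) (n + 2) (by simp) (by simp)]
  refine exact_of_elements _ fun B x hx => ?_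
  haveI := isAffine_secObj f a hW B
  exact exact_sections_affine Res hA (secObj f a W B) n x hx

/-- Degree zero. -/
def secCxHomologyZero (W : (pullback a f).Opens) : (secG f a W).obj M ≅ (secCx f a Res W).homology 0 := by
  let S₀ : ShortComplex (MVF R) := ShortComplex.mk ((secG f a W).map (Res.ι.f 0))
    ((secG f a W).map (Res.cocomplex.d 0 1))
    (((secG f a W).map_comp _ _).symm.trans ((congrArg (secG f a W).map Res.ι_f_zero_comp_complex_d).trans
      ((secG f a W).map_zero _ _)))
  haveI : Mono S₀.f := (mono_iff' _).2 fun B => injective_mono_section (Res.ι.f 0) (op (secObj f a W B))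
  have hS₀ : S₀.Exact := exact_of_elements _ fun B x hx => exists_augmentation Res (secObj f a W B) x hx
  exact IsLimit.conePointUniqueUpToIso hS₀.fIsKernel ((secCx f a Res W).cyclesIsKernel 0 1 (by simp)) ≪≫
    (secCx f a Res W).isoHomologyπ₀

variable {P : ObjectProperty (MVF R)}

theorem mem_affine (hP : Good P) (hA : Acyc ((BigSite.toAbMod Kf T).obj M)) {W : (pullback a f).Opens}
    (hW : IsAffineOpen W) (h0 : P ((secG f a W).obj M)) (i : ℕ) : P ((secCx f a Res W).homology i) := by
  cases i with
  | zero => exact hP.iso (secCxHomologyZero f a Res W) h0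
  | succ n => exact hP.zero (secCx_exactAt f a Res hA hW n).isZero_homology

theorem mem_sup (hP : Good P) (W U : (pullback a f).Opens) (hW : ∀ i, P ((secCx f a Res W).homology i))
    (hU : ∀ i, P ((secCx f a Res U).homology i)) (hI : ∀ i, P ((secCx f a Res (W ⊓ U)).homology i)) (i : ℕ) :
    P ((secCx f a Res (W ⊔ U)).homology i) :=
  hP.homology_X₁ (mvSeq_shortExact f a Res W U) (fun j => hP.homology_biprod j (hW j) (hU j)) hI i

theorem mem_basic (hP : Good P) (hA : Acyc ((BigSite.toAbMod Kf T).obj M))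
    (h0 : ∀ W : (pullback a f).Opens, IsAffineOpen W → P ((secG f a W).obj M))
    {U : (pullback a f).Opens} (hU : IsAffineOpen U) :
    ∀ (l : List Γ(pullback a f, U)) (i : ℕ),
      P ((secCx f a Res (l.foldr (fun g V => V ⊔ (pullback a f).basicOpen g) ⊥)).homology i) := by
  intro l
  induction hl : l.length generalizing l with
  | zero =>
    rw [List.length_eq_zero_iff] at hl
    subst hl
    exact mem_affine f a Res hP hA (isAffineOpen_bot _) (h0 _ (isAffineOpen_bot _))
  | succ k ih =>
    match l, hl with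
    | g :: l, hl =>
      have hk : l.length = k := by simpa using hl
      intro i
      refine mem_sup f a Res hP _ _ (ih l hk)
        (mem_affine f a Res hP hA (hU.basicOpen g) (h0 _ (hU.basicOpen g))) ?_ i
      have e : ∀ l : List Γ(pullback a f, U), l.foldr (fun g V => V ⊔ (pullback a f).basicOpen g) ⊥ ⊓
          (pullback a f).basicOpen g =
          (l.map (· * g)).foldr (fun g V => V ⊔ (pullback a f).basicOpen g) ⊥ := by
        intro l
        induction l with
        | nil => exact bot_inf_eq _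
        | cons x xs hxs =>
          rw [List.map_cons, List.foldr_cons, List.foldr_cons, inf_sup_right, hxs, Scheme.basicOpen_mul]
      rw [e]
      exact ih _ (by simpa using hk)

theorem mem_of_le_affine (hP : Good P) (hA : Acyc ((BigSite.toAbMod Kf T).obj M))
    (h0 : ∀ W : (pullback a f).Opens, IsAffineOpen W → P ((secG f a W).obj M))
    {U : (pullback a f).Opens} (hU : IsAffineOpen U) {V : (pullback a f).Opens} (hV : IsCompact (V : Set ↥(pullback a f)))
    (hle : V ≤ U) (i : ℕ) : P ((secCx f a Res V).homology i) := by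
  classical
  choose g hg hxg using fun x : { y : ↥(pullback a f) // y ∈ V } => hU.exists_basicOpen_le (V := V) ⟨x.1, x.2⟩ (hle x.2)
  obtain ⟨t, ht⟩ := hV.elim_finite_subcover
    (fun x : { y : ↥(pullback a f) // y ∈ V } => ((pullback a f).basicOpen (g x) : Set ↥(pullback a f)))
    (fun x => ((pullback a f).basicOpen (g x)).isOpen) (fun y hy => Set.mem_iUnion.2 ⟨⟨y, hy⟩, hxg _⟩)
  have hmem : ∀ (l : List Γ(pullback a f, U)) (y : ↥(pullback a f)),
      y ∈ l.foldr (fun g V => V ⊔ (pullback a f).basicOpen g) ⊥ ↔ ∃ h ∈ l, y ∈ (pullback a f).basicOpen h := by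
    intro l y
    induction l with
    | nil => simp
    | cons x xs hxs =>
      rw [List.foldr_cons]
      refine ⟨fun hy => ?_, fun ⟨h, hh, hy⟩ => ?_⟩
      · rcases hy with hy | hy
        · obtain ⟨h, hh, hy⟩ := hxs.1 hy
          exact ⟨h, List.mem_cons_of_mem _ hh, hy⟩
        · exact ⟨x, List.mem_cons_self, hy⟩
      · rcases List.mem_cons.1 hh with rfl | hh
        · exact Or.inr hy
        · exact Or.inl (hxs.2 ⟨h, hh, hy⟩)
  have e : V = (t.toList.map g).foldr (fun g V => V ⊔ (pullback a f).basicOpen g) ⊥ := by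
    refine SetLike.ext fun y => ⟨fun hy => ?_, fun hy => ?_⟩
    · obtain ⟨x, hx, hyx⟩ := Set.mem_iUnion₂.1 (ht hy)
      exact (hmem _ _).2 ⟨g x, List.mem_map.2 ⟨x, Finset.mem_toList.2 hx, rfl⟩, hyx⟩
    · obtain ⟨h, hh, hyh⟩ := (hmem _ _).1 hy
      obtain ⟨x, -, rfl⟩ := List.mem_map.1 hh
      exact hg x hyh
  rw [e]
  exact mem_basic f a Res hP hA h0 hU _ i

theorem mem_top [QuasiCompact f] [QuasiSeparated f] (hP : Good P) (hA : Acyc ((BigSite.toAbMod Kf T).obj M))
    (h0 : ∀ W : (pullback a f).Opens, IsAffineOpen W → P ((secG f a W).obj M)) (i : ℕ) :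
    P ((secCx f a Res ⊤).homology i) := by
  haveI : CompactSpace ↥(pullback a f) := QuasiCompact.compactSpace_of_compactSpace (pullback.fst a f)
  haveI : QuasiSeparatedSpace ↥(pullback a f) := quasiSeparatedSpace_of_quasiSeparated (pullback.fst a f)
  revert i
  refine compact_open_induction_on (P := fun W => ∀ i, P ((secCx f a Res W).homology i)) ⊤ isCompact_univ
    (mem_affine f a Res hP hA (isAffineOpen_bot _) (h0 _ (isAffineOpen_bot _))) fun W hW U ih => ?_
  refine mem_sup f a Res hP W U.1 ih (mem_affine f a Res hP hA U.2 (h0 _ U.2)) fun i => ?_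
  exact mem_of_le_affine f a Res hP hA h0 U.2
    (QuasiSeparatedSpace.inter_isCompact _ _ W.isOpen hW U.1.isOpen U.2.isCompact) inf_le_right i

theorem secG_vanish (hpar : parasitic Kf T M) (ha : Flat a) (W : (pullback a f).Opens) :
    vanish ((secG f a W).obj M) :=
  hpar (secObj f a W (selfAlg R)) (flat_secObj f a W ha)

section Derived

/-- The presheaf level complex of the direct image of a resolution. -/
abbrev preCx : CochainComplex (PresheafOfModules.{u + 1} (BigSite.ORing Kf S).obj) ℕ :=
  ((preF (S := S)).mapHomologicalComplex (ComplexShape.up ℕ)).obj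
    (((BigSite.pushMod Kf f).mapHomologicalComplex (ComplexShape.up ℕ)).obj Res.cocomplex)

instance : (shF (S := S)).Additive :=
  (PresheafOfModules.sheafificationAdjunction (𝟙 (BigSite.ORing Kf S).obj)).left_adjoint_additive

instance : (preF (S := S)).Additive := inferInstance

instance : PreservesFiniteColimits (shF (S := S)) :=
  haveI := (PresheafOfModules.sheafificationAdjunction (𝟙 (BigSite.ORing Kf S).obj)).leftAdjoint_preservesColimits
  inferInstance

/-- The derived direct images are the sheafified presheaf homology. -/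
def rPushIso [HasInjectiveResolutions (BigSite.Mod Kf T)] (i : ℕ) :
    (shF (S := S)).obj ((preCx f Res).homology i) ≅ (BigSite.RpushMod Kf f i).obj M :=
  (((preCx f Res).sc i).mapHomologyIso (shF (S := S))).symm ≪≫
    HomologicalComplex.homologyMapIso
      (HomologicalComplex.Hom.isoOfComponents
        (C₁ := ((shF (S := S)).mapHomologicalComplex (ComplexShape.up ℕ)).obj (preCx f Res))
        (C₂ := ((BigSite.pushMod Kf f).mapHomologicalComplex (ComplexShape.up ℕ)).obj Res.cocomplex)
        (fun n => counitIso.app _)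
        (fun n m _ => (counitIso.hom.naturality _).symm)) i ≪≫
    (Res.isoRightDerivedObj (BigSite.pushMod Kf f) i).symm

instance : PreservesFiniteLimits (toMVFPre Kf a) := by
  haveI : PreservesFiniteLimits (PresheafOfModules.toPresheaf (BigSite.ORing Kf S).obj) := inferInstance
  haveI : PreservesFiniteLimits (toMVFPre Kf a ⋙ PresheafOfModules.toPresheaf (ringOf R)) :=
    preservesFiniteLimits_of_natIso (toMVFPreCompToPresheaf a).symm
  haveI : PreservesFiniteLimits (PresheafOfModules.toPresheaf.{u + 1} (ringOf R)) := inferInstance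
  exact preservesFiniteLimits_of_reflects_of_preserves (toMVFPre Kf a) (PresheafOfModules.toPresheaf (ringOf R))

instance : PreservesFiniteColimits (toMVFPre Kf a) :=
  ⟨fun J _ _ => toMVFPre_preservesColimitsOfShape a J⟩

/-- The values of the underlying presheaf are the values. -/
def preValIso : preF (S := S) ⋙ toMVFPre Kf a ≅ toMVF Kf a :=
  NatIso.ofComponents (fun N => Iso.refl _) fun ψ => rfl

/-- The composite comparison. -/
def preTopIso : (BigSite.pushMod Kf f ⋙ preF (S := S)) ⋙ toMVFPre Kf a ≅ secG f a ⊤ :=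
  Functor.associator _ _ _ ≪≫ Functor.isoWhiskerLeft _ (preValIso a) ≪≫ topIso f a

/-- The complex of values of the presheaf complex. -/
def valueCxIso : secCx f a Res ⊤ ≅ ((toMVFPre Kf a).mapHomologicalComplex (ComplexShape.up ℕ)).obj (preCx f Res) :=
  (HomologicalComplex.Hom.isoOfComponents
    (C₁ := ((toMVFPre Kf a).mapHomologicalComplex (ComplexShape.up ℕ)).obj (preCx f Res))
    (C₂ := secCx f a Res ⊤)
    (fun n => (preTopIso f a).app (Res.cocomplex.X n))
    (fun n m _ => ((preTopIso f a).hom.naturality (Res.cocomplex.d n m)).symm)).symm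

/-- The values of the presheaf homology. -/
def valueIso (i : ℕ) : (secCx f a Res ⊤).homology i ≅ (toMVFPre Kf a).obj ((preCx f Res).homology i) :=
  HomologicalComplex.homologyMapIso (valueCxIso f a Res) i ≪≫
    ((preCx f Res).sc i).mapHomologyIso (toMVFPre Kf a)

theorem adequate_presheafHomology [QuasiCompact f] [QuasiSeparated f] (hM : adequateMod Kf T M) (i : ℕ)
    (R' : CommRingCat.{u}) (a' : Spec R' ⟶ S) : adequate R' ((toMVFPre Kf a').obj ((preCx f Res).homology i)) :=
  (adequate R').prop_of_iso (valueIso f a' Res i)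
    (mem_top f a' Res good_adequate (acyc_adequate M hM) (fun _ hW => adequate_secG_affine f a' M hM hW) i)

theorem adequateMod_RpushMod [HasInjectiveResolutions (BigSite.Mod Kf T)] [QuasiCompact f] [QuasiSeparated f]
    (M : BigSite.Mod Kf T) (hM : adequateMod Kf T M) (i : ℕ) :
    adequateMod Kf S ((BigSite.RpushMod Kf f i).obj M) :=
  (adequateMod Kf S).prop_of_iso (rPushIso f (injectiveResolution M) i)
    (adequateMod_shf _ (adequate_presheafHomology f (injectiveResolution M) hM i))

theorem parasitic_RpushMod [HasInjectiveResolutions (BigSite.Mod Kf T)] [QuasiCompact f] [QuasiSeparated f]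
    (M : BigSite.Mod Kf T) (hM : adequateMod Kf T M) (hpar : parasitic Kf T M) (i : ℕ) :
    parasitic Kf S ((BigSite.RpushMod Kf f i).obj M) := by
  let Res := injectiveResolution M
  refine (parasitic Kf S).prop_of_iso (rPushIso f Res i) fun V hV => ?_
  let P := (preCx f Res).homology i
  show Subsingleton (BigSite.sectMod Kf (shf P) V)
  have hval : ∀ (R' : CommRingCat.{u}) (a' : Spec R' ⟶ S), Flat a' →
      Subsingleton (((toMVFPre Kf a').obj P).obj (pt (selfAlg R'))) := fun R' a' ha' =>
    good_vanish.iso (valueIso f a' Res i)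
      (mem_top f a' Res good_vanish (acyc_adequate M hM) (fun W _ => secG_vanish f a' hpar ha' W) i)
  refine subsingleton_of_forall_eq 0 fun x => ?_
  let J : V.left.affineOpens → Over S := fun U => Over.mk (U.2.fromSpec ≫ V.hom)
  refine eq_of_res_eq FP (shf P) J (fun U => Over.homMk U.2.fromSpec rfl) (fun U => fp_of_open U.2.fromSpec)
    (fun t => ?_) x 0 fun U => ?_
  · obtain ⟨U, hU, htU, -⟩ := exists_isAffineOpen_mem_and_subset (show t ∈ (⊤ : V.left.Opens) from trivial)
    obtain ⟨y, hy⟩ : t ∈ Set.range hU.fromSpec := by rw [hU.range_fromSpec]; exact htU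
    exact ⟨⟨U, hU⟩, y, hy⟩
  · let a' : Spec Γ(V.left, U.1) ⟶ S := U.2.fromSpec ≫ V.hom
    have ha' : Flat a' := inferInstanceAs (Flat (U.2.fromSpec ≫ V.hom))
    haveI : Subsingleton (((toMVFPre Kf a').obj P).obj (pt (selfAlg Γ(V.left, U.1)))) := hval _ a' ha'
    haveI : Subsingleton (((toMVF Kf a').obj (shf P)).obj (pt (selfAlg Γ(V.left, U.1)))) :=
      @Function.Surjective.subsingleton _ _ _ (hval _ a' ha')
        (unit_bijective P (adequate_presheafHomology f Res hM i) a' (selfAlg Γ(V.left, U.1))).2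
    have e : base a' = J U := overMk_congr _ _ (spec_id_comp a')
    haveI hJ : Subsingleton (BigSite.sectMod Kf (shf P) (J U)) := by
      rw [← e]
      exact inferInstanceAs (Subsingleton (((toMVF Kf a').obj (shf P)).obj (pt (selfAlg Γ(V.left, U.1)))))
    exact Subsingleton.elim _ _

end Derived

end

end Groth.L23.BigCech
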