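import Groth.Agent.L28.ProEt.Cech.Basic
import Mathlib.Algebra.Category.ModuleCat.Presheaf.Free
import Mathlib.Algebra.Category.ModuleCat.Presheaf.Abelian
import Mathlib.Algebra.Category.ModuleCat.Presheaf.EpiMono
import Mathlib.CategoryTheory.Abelian.Basic

/-!
# Injective presheaves of modules: Čech acyclicity and extension of sections
-/

universe u v₁

open CategoryTheory Limits Opposite

set_option backward.isDefEq.respectTransparency.types false
set_option linter.style.haveILetI false

namespace Groth.L23.BigCech.Inj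

open Groth.L28.ProEt.Cech (d d_apply)
open Groth.L10 (Nerve.N Nerve.δ Nerve.s Nerve.s_δ_zero Nerve.s_δ_succ)

noncomputable section

variable {C : Type v₁} [Category.{u} C] {R : Cᵒᵖ ⥤ RingCat.{u + 1}}

/-- A representable presheaf of sets, one universe up. -/
abbrev yF (V : C) : Cᵒᵖ ⥤ Type (u + 1) := yoneda.obj V ⋙ uliftFunctor.{u + 1}

variable (R) in
/-- The free presheaf of modules on an object. -/
abbrev freeY (V : C) : PresheafOfModules.{u + 1} R := (PresheafOfModules.free R).obj (yF V)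

variable (R) in
/-- Functoriality of free modules on objects. -/
def fmap {V W : C} (f : V ⟶ W) : freeY R V ⟶ freeY R W :=
  (PresheafOfModules.free R).map (Functor.whiskerRight (yoneda.map f) uliftFunctor.{u + 1})

/-- The generator at a point. -/
def gen {V : C} {Q : Cᵒᵖ} (g : Q.unop ⟶ V) : (freeY R V).obj Q := ModuleCat.freeMk (ULift.up g)

theorem fmap_gen {V W : C} (f : V ⟶ W) {Q : Cᵒᵖ} (g : Q.unop ⟶ V) :
    (fmap R f).app Q (gen g) = gen (g ≫ f) :=
  ModuleCat.free_map_apply _ _

theorem map_gen {V : C} {Q Q' : Cᵒᵖ} (h : Q ⟶ Q') (g : Q.unop ⟶ V) :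
    (freeY R V).map h (gen g) = gen (h.unop ≫ g) :=
  ModuleCat.freeDesc_apply (M := (ModuleCat.restrictScalars (R.map h).hom).obj ((freeY R V).obj Q')) _ _

/-- The universal section of a map out of a free module. -/
def ofHom {V : C} {P : PresheafOfModules.{u + 1} R} (φ : freeY R V ⟶ P) : P.obj (op V) :=
  φ.app (op V) (gen (𝟙 V))

theorem app_gen {V : C} {P : PresheafOfModules.{u + 1} R} (φ : freeY R V ⟶ P) {Q : Cᵒᵖ} (g : Q.unop ⟶ V) :
    φ.app Q (gen g) = P.map g.op (ofHom φ) := by
  refine Eq.trans ?_ (PresheafOfModules.naturality_apply φ g.op (gen (𝟙 V)))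
  refine congrArg (φ.app Q) ?_
  exact ((map_gen g.op (𝟙 V)).trans (congrArg gen (Category.comp_id g))).symm

theorem hom_ext_ofHom {V : C} {P : PresheafOfModules.{u + 1} R} {φ ψ : freeY R V ⟶ P} (h : ofHom φ = ofHom ψ) :
    φ = ψ := by
  refine PresheafOfModules.hom_ext fun Q => ModuleCat.free_hom_ext fun x => ?_
  exact (app_gen φ x.down).trans ((congrArg (P.map x.down.op) h).trans (app_gen ψ x.down).symm)

/-- The map out of a free module given by a section. -/
def toHom {V : C} (P : PresheafOfModules.{u + 1} R) (x : P.obj (op V)) : freeY R V ⟶ P :=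
  PresheafOfModules.freeObjDesc
    { app := fun Q => ↾fun g => P.presheaf.map g.down.op x
      naturality := fun Q Q' h => by
        ext g
        exact ConcreteCategory.congr_hom (P.presheaf.map_comp g.down.op h) x }

theorem ofHom_toHom {V : C} (P : PresheafOfModules.{u + 1} R) (x : P.obj (op V)) : ofHom (toHom P x) = x :=
  (ModuleCat.freeDesc_apply _ _).trans (ConcreteCategory.congr_hom (P.presheaf.map_id _) x)

theorem ofHom_fmap {V W : C} {P : PresheafOfModules.{u + 1} R} (f : V ⟶ W) (φ : freeY R W ⟶ P) :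
    ofHom (fmap R f ≫ φ) = P.presheaf.map f.op (ofHom φ) := by
  show φ.app (op V) ((fmap R f).app (op V) (gen (𝟙 V))) = _
  rw [fmap_gen, Category.id_comp]
  exact app_gen φ f

theorem mono_fmap {V W : C} (f : V ⟶ W) [Mono f] : Mono (fmap R f) := by
  refine (PresheafOfModules.mono_iff_surjective _).2 fun {Q} => ?_
  refine Finsupp.mapDomain_injective ?_
  intro g g' h
  exact ULift.ext _ _ ((cancel_mono f).1 (congrArg ULift.down h))

variable {P : PresheafOfModules.{u + 1} R} [Injective P]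

/-- Sections of an injective presheaf of modules extend along monomorphisms. -/
theorem surjective_of_mono {V W : C} (f : V ⟶ W) [Mono f] : Function.Surjective (P.presheaf.map f.op) := by
  intro x
  haveI := mono_fmap (R := R) f
  refine ⟨ofHom (Injective.factorThru (toHom P x) (fmap R f)), ?_⟩
  rw [← ofHom_fmap, Injective.comp_factorThru, ofHom_toHom]

section Nerve

variable [HasFiniteWidePullbacks C] {V U : C} (p : V ⟶ U)

variable (R) in
/-- The differential of the free nerve complex. -/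
def dF (n : ℕ) : freeY R (Nerve.N p (n + 1)) ⟶ freeY R (Nerve.N p n) :=
  ∑ j : Fin (n + 2), (-1 : ℤ) ^ (j : ℕ) • fmap R (Nerve.δ p j)

theorem app_sum_zsmul {M N : PresheafOfModules.{u + 1} R} {ι : Type*} (s : Finset ι) (φ : ι → (M ⟶ N))
    (c : ι → ℤ) (Q : Cᵒᵖ) (x : M.obj Q) :
    (∑ i ∈ s, c i • φ i).app Q x = ∑ i ∈ s, c i • (φ i).app Q x := by
  let e : (M ⟶ N) →+ N.obj Q :=
    { toFun := fun ψ => ψ.app Q x, map_zero' := rfl, map_add' := fun _ _ => rfl }
  exact (map_sum e _ _).trans (Finset.sum_congr rfl fun i _ => map_zsmul e _ _)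

theorem dF_gen (n : ℕ) {Q : Cᵒᵖ} (g : Q.unop ⟶ Nerve.N p (n + 1)) :
    (dF R p n).app Q (gen g) = ∑ j : Fin (n + 2), (-1 : ℤ) ^ (j : ℕ) • gen (g ≫ Nerve.δ p j) := by
  rw [dF, app_sum_zsmul]
  simp only [fmap_gen]

theorem ofHom_dF (n : ℕ) (φ : freeY R (Nerve.N p n) ⟶ P) :
    ofHom (dF R p n ≫ φ) = d p P.presheaf n (ofHom φ) := by
  show φ.app _ ((dF R p n).app _ (gen (𝟙 _))) = _
  rw [dF_gen, d_apply, map_sum]
  refine Finset.sum_congr rfl fun j _ => ?_
  rw [map_zsmul, Category.id_comp]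
  exact congrArg _ (app_gen φ (Nerve.δ p j))

variable (R) in
/-- The contracting homotopy on points. -/
def hQ (n : ℕ) (Q : Cᵒᵖ) :
    (freeY R (Nerve.N p n)).obj Q ⟶ (freeY R (Nerve.N p (n + 1))).obj Q :=
  (ModuleCat.free (R.obj Q)).map (↾fun g => ULift.up (Nerve.s p g.down))

theorem hQ_gen (n : ℕ) {Q : Cᵒᵖ} (g : Q.unop ⟶ Nerve.N p n) :
    hQ R p n Q (gen g) = gen (Nerve.s p g) :=
  ModuleCat.free_map_apply _ _

theorem homotopy (n : ℕ) (Q : Cᵒᵖ) :
    hQ R p (n + 1) Q ≫ (dF R p (n + 1)).app Q + (dF R p n).app Q ≫ hQ R p n Q = 𝟙 _ := by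
  refine ModuleCat.free_hom_ext fun x => ?_
  obtain ⟨g⟩ := x
  show (dF R p (n + 1)).app Q (hQ R p (n + 1) Q (gen g)) + hQ R p n Q ((dF R p n).app Q (gen g)) = gen g
  rw [hQ_gen, dF_gen, dF_gen, map_sum, Fin.sum_univ_succ]
  simp only [map_zsmul, hQ_gen, Fin.val_zero, pow_zero, one_smul, Fin.val_succ, pow_succ, mul_neg, mul_one,
    neg_smul, Nerve.s_δ_zero, Nerve.s_δ_succ, Finset.sum_neg_distrib]
  abel

/-- The nerve complex of sections of an injective presheaf of modules is exact in positive degrees. -/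
theorem acyclic : Groth.L28.ProEt.Cech.Acyclic p P.presheaf := by
  intro n x hx
  let φ := toHom P x
  have hφ : dF R p (n + 1) ≫ φ = 0 := hom_ext_ofHom (by
    rw [ofHom_dF, ofHom_toHom]
    exact hx)
  have hker : kernel.ι (dF R p n) ≫ φ = 0 := by
    refine PresheafOfModules.hom_ext fun Q => ModuleCat.hom_ext (LinearMap.ext fun z => ?_)
    let w := (kernel.ι (dF R p n)).app Q z
    show φ.app Q w = 0
    have hw : (dF R p n).app Q w = 0 :=
      congrArg (fun k : kernel (dF R p n) ⟶ freeY R (Nerve.N p n) => k.app Q z) (kernel.condition (dF R p n))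
    have e : (dF R p (n + 1)).app Q (hQ R p (n + 1) Q w) + hQ R p n Q ((dF R p n).app Q w) = w :=
      ConcreteCategory.congr_hom (homotopy p n Q) w
    rw [hw, map_zero, add_zero] at e
    rw [← e]
    exact congrArg (fun k : freeY R (Nerve.N p (n + 2)) ⟶ P => k.app Q (hQ R p (n + 1) Q w)) hφ
  let ψ := Injective.factorThru (cokernel.desc (kernel.ι (dF R p n)) φ hker) (Abelian.factorThruCoimage (dF R p n))
  have hψ : dF R p n ≫ ψ = φ := by
    conv_lhs => rw [← Abelian.coimage.fac (dF R p n)]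
    rw [Category.assoc, Injective.comp_factorThru]
    exact cokernel.π_desc _ _ _
  refine ⟨ofHom ψ, ?_⟩
  rw [← ofHom_dF, hψ, ofHom_toHom]

end Nerve

end

end Groth.L23.BigCech.Inj
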