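import Groth.Agent.L23.BigCech.LocalSections
import Groth.Agent.L23.AdeqSite.Extension
import Mathlib.Algebra.Homology.HomologicalComplexAbelian

/-!
# Adequacy over affine opens and Mayer–Vietoris sequences
-/

universe u

open CategoryTheory Limits Opposite AlgebraicGeometry TensorProduct

set_option backward.isDefEq.respectTransparency.types false
set_option linter.style.haveILetI false

namespace Groth.L23.BigCech

open Groth.L23.Adq _root_.Adeq

noncomputable section

local notation "Kf" => Scheme.fppfPrecoverage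

variable {S T : Scheme.{u}} (f : T ⟶ S) {R : CommRingCat.{u}} (a : Spec R ⟶ S)

theorem isIso_lift {X Y V : Scheme.{u}} (u : X ⟶ V) (w : Y ⟶ V) [IsOpenImmersion u] [IsOpenImmersion w]
    (h₁ : Set.range u ⊆ Set.range w) (h₂ : Set.range w ⊆ Set.range u) : IsIso (IsOpenImmersion.lift w u h₁) :=
  ⟨IsOpenImmersion.lift u w h₂,
    (cancel_mono u).1 ((Category.assoc _ _ _).trans ((congrArg (_ ≫ ·) (IsOpenImmersion.lift_fac _ _ _)).trans
      ((IsOpenImmersion.lift_fac _ _ _).trans (Category.id_comp _).symm))),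
    (cancel_mono w).1 ((Category.assoc _ _ _).trans ((congrArg (_ ≫ ·) (IsOpenImmersion.lift_fac _ _ _)).trans
      ((IsOpenImmersion.lift_fac _ _ _).trans (Category.id_comp _).symm)))⟩

section Chart

variable {W : (pullback a f).Opens} (A : Type u) [CommRing A] [Algebra R A]
  (j : Spec (CommRingCat.of A) ⟶ pullback a f) [IsOpenImmersion j]
  (hj₁ : j ≫ pullback.fst a f = algSpec (R := R) A) (hW : Set.range j = (W : Set _))

/-- The composite to `T`. -/
abbrev chartBase : Spec (CommRingCat.of A) ⟶ T := j ≫ pullback.snd a f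

include hj₁ in
theorem chartBase_cond : chartBase f a A j ≫ f = algSpec (R := R) A ≫ a := by
  rw [Category.assoc, ← pullback.condition, ← Category.assoc, hj₁]

include hj₁ in
theorem isOpenImmersion_chartLeft (B : Alg R) :
    IsOpenImmersion (chartLeft f a A (chartBase f a A j) (chartBase_cond f a A j hj₁) B) :=
  MorphismProperty.of_isPullback (P := @IsOpenImmersion)
    (chart_isPullback f a A (chartBase f a A j) _ j hj₁ rfl B).flip inferInstance

include hW in
theorem range_chartLeft (B : Alg R) :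
    Set.range (chartLeft f a A (chartBase f a A j) (chartBase_cond f a A j hj₁) B) =
      (piMap f a B ⁻¹ᵁ W : Set _) := by
  have h := chart_isPullback f a A (chartBase f a A j) (chartBase_cond f a A j hj₁) j hj₁ rfl B
  ext t
  constructor
  · rintro ⟨z, rfl⟩
    show piMap f a B (chartLeft f a A (chartBase f a A j) _ B z) ∈ (W : Set _)
    rw [← Scheme.Hom.comp_apply, h.w, Scheme.Hom.comp_apply, ← hW]
    exact Set.mem_range_self _
  · intro ht
    have ht' : piMap f a B t ∈ Set.range j := hW ▸ ht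
    obtain ⟨y, hy⟩ := ht'
    obtain ⟨z, hz, -⟩ := exists_preimage_of_isPullback h t y hy.symm
    exact ⟨z, hz⟩

include hW in
theorem range_chartLeft_subset (B : Alg R) :
    Set.range (chartLeft f a A (chartBase f a A j) (chartBase_cond f a A j hj₁) B) ⊆
      Set.range (piMap f a B ⁻¹ᵁ W).ι :=
  le_of_eq ((range_chartLeft f a A j hj₁ hW B).trans (Scheme.Opens.range_ι _).symm)

/-- The underlying map from the chart to the preimage. -/
abbrev toWLeft (B : Alg R) : Spec (CommRingCat.of (A ⊗[R] B)) ⟶ (piMap f a B ⁻¹ᵁ W : Scheme.{u}) :=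
  IsOpenImmersion.lift (piMap f a B ⁻¹ᵁ W).ι (chartLeft f a A (chartBase f a A j) (chartBase_cond f a A j hj₁) B)
    (range_chartLeft_subset f a A j hj₁ hW B)

theorem toWLeft_fac (B : Alg R) : toWLeft f a A j hj₁ hW B ≫ (piMap f a B ⁻¹ᵁ W).ι =
    chartLeft f a A (chartBase f a A j) (chartBase_cond f a A j hj₁) B :=
  IsOpenImmersion.lift_fac _ _ _

/-- From the chart to the preimage. -/
def toW (B : Alg R) :
    (specOver (R := CommRingCat.of A) (chartBase f a A j)).obj (op ((Alg.baseChange R A).obj B)) ⟶ secObj f a W B :=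
  Over.homMk (U := Over.mk (inclL B A ≫ chartBase f a A j)) (V := secObj f a W B)
    (toWLeft f a A j hj₁ hW B)
    ((Category.assoc _ _ _).symm.trans ((congrArg (· ≫ pullback.snd _ f) (IsOpenImmersion.lift_fac _ _ _)).trans
      (pullback.lift_snd _ _ _)))

theorem toW_incl (B : Alg R) :
    toW f a A j hj₁ hW B ≫ incl f a W B = chart f a A (chartBase f a A j) (chartBase_cond f a A j hj₁) B :=
  Over.OverMorphism.ext (toWLeft_fac f a A j hj₁ hW B)

theorem isIso_toW (B : Alg R) : IsIso (toW f a A j hj₁ hW B) := by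
  haveI := isOpenImmersion_chartLeft f a A j hj₁ B
  haveI : IsIso (toW f a A j hj₁ hW B).left :=
    isIso_lift (chartLeft f a A (chartBase f a A j) (chartBase_cond f a A j hj₁) B) (piMap f a B ⁻¹ᵁ W).ι
      (range_chartLeft_subset f a A j hj₁ hW B)
      (le_of_eq ((Scheme.Opens.range_ι _).trans (range_chartLeft f a A j hj₁ hW B).symm))
  haveI : IsIso ((Over.forget T).map (toW f a A j hj₁ hW B)) := this
  exact isIso_of_reflects_iso _ (Over.forget T)

/-- The comparison with a change of base. -/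
def chartHom (M : BigSite.Mod Kf T) :
    (secG f a W).obj M ⟶ (push R A).obj ((toMVF (R := CommRingCat.of A) Kf (chartBase f a A j)).obj M) :=
  mkHom
    (fun B =>
      { toFun := fun x => res FP M (toW f a A j hj₁ hW B) x
        map_add' := fun x y => map_add (res FP M (toW f a A j hj₁ hW B)) x y
        map_smul' := fun b x => by
          refine (res_smul FP M (toW f a A j hj₁ hW B) (toSec f a W B b) x).trans ?_
          refine congrArg (· • res FP M _ x) (ULift.ext _ _ ?_)
          refine ((ConcreteCategory.congr_hom (Scheme.Hom.comp_appTop (toW f a A j hj₁ hW B).left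
            (sfst f a W B)).symm _).trans ?_).trans (appTop_chartLeft f a A (chartBase f a A j) (chartBase_cond f a A j hj₁) B b)
          refine (ConcreteCategory.congr_hom (congrArg Scheme.Hom.appTop
            ((Category.assoc _ _ _).symm.trans (congrArg (· ≫ pullback.fst _ _) (IsOpenImmersion.lift_fac _ _ _)))) _).trans ?_
          exact ConcreteCategory.congr_hom (Scheme.Hom.comp_appTop _ _) _ })
    fun B B' g x => by
      show res FP M _ (res FP M _ x) = res FP M _ (res FP M _ x)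
      rw [← res_comp, ← res_comp]
      refine congrArg (fun t => res FP M t x) ?_
      show toW f a A j hj₁ hW B' ≫ secMap f a W g =
        soMap (R := CommRingCat.of A) (chartBase f a A j) ((Alg.baseChange R A).map g) ≫ toW f a A j hj₁ hW B
      rw [← cancel_mono (incl f a W B), Category.assoc, Category.assoc, secMap_incl, toW_incl, ← Category.assoc,
        toW_incl]
      exact chart_naturality f a A (chartBase f a A j) (chartBase_cond f a A j hj₁) g

theorem chartHom_bijective (M : BigSite.Mod Kf T) (B : Alg R) :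
    Function.Bijective (ap (chartHom f a A j hj₁ hW M) B) := by
  haveI := isIso_toW f a A j hj₁ hW B
  exact Function.bijective_iff_has_inverse.2 ⟨fun y => res FP M (inv (toW f a A j hj₁ hW B)) y,
    fun x => (res_comp FP M _ _ x).symm.trans ((congrArg (fun t => res FP M t x)
        (IsIso.inv_hom_id (toW f a A j hj₁ hW B))).trans (res_id FP M x)),
    fun y => (res_comp FP M _ _ y).symm.trans ((congrArg (fun t => res FP M t y)
        (IsIso.hom_inv_id (toW f a A j hj₁ hW B))).trans (res_id FP M y))⟩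

end Chart

/-- Over an affine open the sections of an adequate module form an adequate functor. -/
theorem adequate_secG_affine (M : BigSite.Mod Kf T) (hM : adequateMod Kf T M) {W : (pullback a f).Opens}
    (hW : IsAffineOpen W) : adequate R ((secG f a W).obj M) := by
  letI : Algebra R Γ(pullback a f, W) := (Spec.preimage (hW.fromSpec ≫ pullback.fst a f)).hom.toAlgebra
  have hj₁ : hW.fromSpec ≫ pullback.fst a f = algSpec (R := R) Γ(pullback a f, W) := (Spec.map_preimage _).symm
  haveI : IsIso (chartHom f a Γ(pullback a f, W) hW.fromSpec hj₁ hW.range_fromSpec M) :=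
    isIso_of_bijective _ (chartHom_bijective f a _ hW.fromSpec hj₁ hW.range_fromSpec M)
  exact (adequate R).prop_of_iso (asIso (chartHom f a Γ(pullback a f, W) hW.fromSpec hj₁ hW.range_fromSpec M)).symm
    (adequate_push' (fppf_adequate_toMVF hM _))

section MV

variable {M : BigSite.Mod Kf T} (Res : InjectiveResolution M) {W : (pullback a f).Opens}

/-- The complex of sections of a resolution over the preimages of an open. -/
abbrev secCx (W : (pullback a f).Opens) : CochainComplex (MVF R) ℕ :=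
  ((secG f a W).mapHomologicalComplex (ComplexShape.up ℕ)).obj Res.cocomplex

/-- Restriction of complexes of sections. -/
abbrev secCxRes {W W' : (pullback a f).Opens} (h : W ≤ W') : secCx f a Res W' ⟶ secCx f a Res W :=
  (NatTrans.mapHomologicalComplex (secRes f a h) (ComplexShape.up ℕ)).app Res.cocomplex

theorem secRes_comp {W₁ W₂ W₃ : (pullback a f).Opens} (h₁ : W₁ ≤ W₂) (h₂ : W₂ ≤ W₃) :
    secRes f a h₂ ≫ secRes f a h₁ = secRes f a (h₁.trans h₂) := by
  refine NatTrans.ext (funext fun N => hom_ext' fun B x => ?_)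
  refine (res_comp FP N (secLe f a h₁ B) (secLe f a h₂ B) x).symm.trans ?_
  refine congrArg (fun t => res FP N t x) ?_
  exact (cancel_mono (incl f a W₃ B)).1 ((Category.assoc _ _ _).trans ((congrArg (secLe f a h₁ B ≫ ·)
    (secLe_incl f a h₂ B)).trans ((secLe_incl f a h₁ B).trans (secLe_incl f a (h₁.trans h₂) B).symm)))

theorem secCxRes_comp {W₁ W₂ W₃ : (pullback a f).Opens} (h₁ : W₁ ≤ W₂) (h₂ : W₂ ≤ W₃) :
    secCxRes f a Res h₂ ≫ secCxRes f a Res h₁ = secCxRes f a Res (h₁.trans h₂) :=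
  HomologicalComplex.hom_ext _ _ fun n =>
    congrArg (fun k : secG f a W₃ ⟶ secG f a W₁ => k.app (Res.cocomplex.X n)) (secRes_comp f a h₁ h₂)

variable (W U : (pullback a f).Opens)

/-- The Mayer–Vietoris sequence. -/
def mvSeq : ShortComplex (CochainComplex (MVF R) ℕ) :=
  ShortComplex.mk
    (biprod.lift (secCxRes f a Res (le_sup_left : W ≤ W ⊔ U)) (secCxRes f a Res (le_sup_right : U ≤ W ⊔ U)))
    (biprod.desc (secCxRes f a Res (inf_le_left : W ⊓ U ≤ W)) (-secCxRes f a Res (inf_le_right : W ⊓ U ≤ U)))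
    (by rw [biprod.lift_desc, Preadditive.comp_neg, secCxRes_comp, secCxRes_comp, add_neg_cancel])

theorem piMap_sup (B : Alg R) (t : ↥(pullback (algSpec (B : Type u) ≫ a) f)) (ht : t ∈ piMap f a B ⁻¹ᵁ (W ⊔ U)) :
    t ∈ piMap f a B ⁻¹ᵁ W ∨ t ∈ piMap f a B ⁻¹ᵁ U := ht

/-- The pieces of the covering of a union. -/
def mvObj (B : Alg R) : ULift.{u} Bool → Over T
  | ⟨true⟩ => secObj f a W B
  | ⟨false⟩ => secObj f a U B

/-- The maps of the covering of a union. -/
def mvMap (B : Alg R) : ∀ i, mvObj f a W U B i ⟶ secObj f a (W ⊔ U) B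
  | ⟨true⟩ => secLe f a le_sup_left B
  | ⟨false⟩ => secLe f a le_sup_right B

theorem mvMap_fp (B : Alg R) (i) : FP (mvMap f a W U B i).left := by
  obtain ⟨b⟩ := i
  cases b
  · exact fp_of_open ((pullback (algSpec (B : Type u) ≫ a) f).homOfLE (preLe f a le_sup_right B))
  · exact fp_of_open ((pullback (algSpec (B : Type u) ≫ a) f).homOfLE (preLe f a le_sup_left B))

theorem mvMap_surj (B : Alg R) (t : ↥(secObj f a (W ⊔ U) B).left) :
    ∃ i y, (mvMap f a W U B i).left y = t := by
  obtain ⟨t, ht⟩ := t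
  rcases piMap_sup f a W U B t ht with h | h
  · exact ⟨⟨true⟩, ⟨t, h⟩, Subtype.ext ((Scheme.Hom.comp_apply _ _ _).symm.trans
      (congrArg (fun k : (piMap f a B ⁻¹ᵁ W : Scheme.{u}) ⟶ pullback (algSpec (B : Type u) ≫ a) f => k ⟨t, h⟩)
        (Scheme.homOfLE_ι _ (preLe f a le_sup_left B))))⟩
  · exact ⟨⟨false⟩, ⟨t, h⟩, Subtype.ext ((Scheme.Hom.comp_apply _ _ _).symm.trans
      (congrArg (fun k : (piMap f a B ⁻¹ᵁ U : Scheme.{u}) ⟶ pullback (algSpec (B : Type u) ≫ a) f => k ⟨t, h⟩)
        (Scheme.homOfLE_ι _ (preLe f a le_sup_right B))))⟩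

/-- Two maps that agree in the union factor through the intersection. -/
theorem exists_inf_lift (B : Alg R) {V : Over T} (x : V ⟶ secObj f a W B) (y : V ⟶ secObj f a U B)
    (h : x ≫ incl f a W B = y ≫ incl f a U B) :
    ∃ l : V ⟶ secObj f a (W ⊓ U) B, l ≫ secLe f a inf_le_left B = x ∧ l ≫ secLe f a inf_le_right B = y := by
  have h' : x.left ≫ (piMap f a B ⁻¹ᵁ W).ι = y.left ≫ (piMap f a B ⁻¹ᵁ U).ι := congrArg Over.Hom.left h
  haveI hI : IsOpenImmersion (piMap f a B ⁻¹ᵁ (W ⊓ U)).ι := inferInstance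
  let l₀ : V.left ⟶ (piMap f a B ⁻¹ᵁ (W ⊓ U) : Scheme.{u}) :=
    @IsOpenImmersion.lift _ _ _ (piMap f a B ⁻¹ᵁ (W ⊓ U)).ι (x.left ≫ (piMap f a B ⁻¹ᵁ W).ι) hI (by
      rintro _ ⟨v, rfl⟩
      rw [Scheme.Opens.range_ι]
      refine ⟨?_, ?_⟩
      · rw [Scheme.Hom.comp_apply]
        exact (x.left v).2
      · rw [h', Scheme.Hom.comp_apply]
        exact (y.left v).2)
  have hl₀ : l₀ ≫ (piMap f a B ⁻¹ᵁ (W ⊓ U)).ι = x.left ≫ (piMap f a B ⁻¹ᵁ W).ι :=
    @IsOpenImmersion.lift_fac _ _ _ _ _ hI _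
  let l : V ⟶ secObj f a (W ⊓ U) B := Over.homMk (U := V) (V := secObj f a (W ⊓ U) B) l₀
    ((Category.assoc _ _ _).symm.trans ((congrArg (· ≫ pullback.snd _ f) (IsOpenImmersion.lift_fac _ _ _)).trans
      ((Category.assoc _ _ _).trans (Over.w x))))
  have hl : l ≫ incl f a (W ⊓ U) B = x ≫ incl f a W B := Over.OverMorphism.ext hl₀
  refine ⟨l, ?_, ?_⟩
  · rw [← cancel_mono (incl f a W B), Category.assoc, secLe_incl, hl]
  · rw [← cancel_mono (incl f a U B), Category.assoc, secLe_incl, hl, h]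

theorem mv_glue (N : BigSite.Mod Kf T) (B : Alg R) (x : BigSite.sectMod Kf N (secObj f a W B))
    (y : BigSite.sectMod Kf N (secObj f a U B))
    (h : res FP N (secLe f a (inf_le_left : W ⊓ U ≤ W) B) x = res FP N (secLe f a (inf_le_right : W ⊓ U ≤ U) B) y) :
    ∃ z, res FP N (secLe f a (le_sup_left : W ≤ W ⊔ U) B) z = x ∧
      res FP N (secLe f a (le_sup_right : U ≤ W ⊔ U) B) z = y := by
  let s : ∀ i, BigSite.sectMod Kf N (mvObj f a W U B i) := fun i =>
    match i with
    | ⟨true⟩ => x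
    | ⟨false⟩ => y
  have key : ∀ (V : Over T) (g : V ⟶ secObj f a W B) (g' : V ⟶ secObj f a U B),
      g ≫ secLe f a le_sup_left B = g' ≫ secLe f a le_sup_right B → res FP N g x = res FP N g' y := by
    intro V g g' e
    obtain ⟨l, rfl, rfl⟩ := exists_inf_lift f a W U B g g' (by
      rw [← secLe_incl f a (le_sup_left : W ≤ W ⊔ U), ← secLe_incl f a (le_sup_right : U ≤ W ⊔ U), ← Category.assoc,
        e, Category.assoc])
    rw [res_comp, res_comp, h]
  obtain ⟨z, hz⟩ := exists_glue FP N (mvObj f a W U B) (mvMap f a W U B) (mvMap_fp f a W U B) (mvMap_surj f a W U B) s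
    fun i j V g g' e => by
      obtain ⟨b⟩ := i
      obtain ⟨b'⟩ := j
      cases b <;> cases b'
      · exact congrArg (fun t => res FP N t y) ((cancel_mono (secLe f a (le_sup_right : U ≤ W ⊔ U) B)).1 e)
      · exact (key V g' g e.symm).symm
      · exact key V g g' e
      · exact congrArg (fun t => res FP N t x) ((cancel_mono (secLe f a (le_sup_left : W ≤ W ⊔ U) B)).1 e)
  exact ⟨z, hz ⟨true⟩, hz ⟨false⟩⟩

theorem mv_ext (N : BigSite.Mod Kf T) (B : Alg R) (z z' : BigSite.sectMod Kf N (secObj f a (W ⊔ U) B))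
    (h₁ : res FP N (secLe f a (le_sup_left : W ≤ W ⊔ U) B) z = res FP N (secLe f a le_sup_left B) z')
    (h₂ : res FP N (secLe f a (le_sup_right : U ≤ W ⊔ U) B) z = res FP N (secLe f a le_sup_right B) z') : z = z' :=
  eq_of_res_eq FP N (mvObj f a W U B) (mvMap f a W U B) (mvMap_fp f a W U B) (mvMap_surj f a W U B) z z' fun i => by
    obtain ⟨b⟩ := i
    cases b
    · exact h₂
    · exact h₁

theorem ap_congr {F G : MVF R} {φ θ : F ⟶ G} (h : φ = θ) (B : Alg R) (x : F.obj (pt B)) : ap φ B x = ap θ B x := by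
  rw [h]

theorem mvSeq_shortExact : (mvSeq f a Res W U).ShortExact := by
  refine HomologicalComplex.shortExact_of_degreewise_shortExact _ fun n => ?_
  let F₁ := secCx f a Res W
  let F₂ := secCx f a Res U
  let p₁ : (F₁ ⊞ F₂).X n ⟶ F₁.X n := (biprod.fst : F₁ ⊞ F₂ ⟶ F₁).f n
  let p₂ : (F₁ ⊞ F₂).X n ⟶ F₂.X n := (biprod.snd : F₁ ⊞ F₂ ⟶ F₂).f n
  let i₁ : F₁.X n ⟶ (F₁ ⊞ F₂).X n := (biprod.inl : F₁ ⟶ F₁ ⊞ F₂).f n
  let i₂ : F₂.X n ⟶ (F₁ ⊞ F₂).X n := (biprod.inr : F₂ ⟶ F₁ ⊞ F₂).f n
  have e₁ : (mvSeq f a Res W U).f.f n ≫ p₁ = (secRes f a (le_sup_left : W ≤ W ⊔ U)).app _ :=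
    congrArg (fun k : secCx f a Res (W ⊔ U) ⟶ F₁ => k.f n) (biprod.lift_fst _ _)
  have e₂ : (mvSeq f a Res W U).f.f n ≫ p₂ = (secRes f a (le_sup_right : U ≤ W ⊔ U)).app _ :=
    congrArg (fun k : secCx f a Res (W ⊔ U) ⟶ F₂ => k.f n) (biprod.lift_snd _ _)
  have g₁ : i₁ ≫ (mvSeq f a Res W U).g.f n = (secRes f a (inf_le_left : W ⊓ U ≤ W)).app _ :=
    congrArg (fun k : F₁ ⟶ secCx f a Res (W ⊓ U) => k.f n) (biprod.inl_desc _ _)
  have g₂ : i₂ ≫ (mvSeq f a Res W U).g.f n = -(secRes f a (inf_le_right : W ⊓ U ≤ U)).app _ :=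
    congrArg (fun k : F₂ ⟶ secCx f a Res (W ⊓ U) => k.f n) (biprod.inr_desc _ _)
  have tot : p₁ ≫ i₁ + p₂ ≫ i₂ = 𝟙 _ :=
    congrArg (fun k : F₁ ⊞ F₂ ⟶ F₁ ⊞ F₂ => k.f n) biprod.total
  have htot : ∀ B (x : ((F₁ ⊞ F₂).X n).obj (pt B)), ap i₁ B (ap p₁ B x) + ap i₂ B (ap p₂ B x) = x :=
    fun B x => ap_congr tot B x
  refine
    { exact := exact_of_elements _ fun B x hx => ?_
      mono_f := (mono_iff' _).2 fun B z z' h => ?_
      epi_g := (epi_iff' _).2 fun B y => ?_ }
  · change ap ((mvSeq f a Res W U).g.f n) B x = 0 at hx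
    have e : x = ap i₁ B (ap p₁ B x) + ap i₂ B (ap p₂ B x) := (htot B x).symm
    replace hx : ap ((mvSeq f a Res W U).g.f n) B (ap i₁ B (ap p₁ B x)) +
        ap ((mvSeq f a Res W U).g.f n) B (ap i₂ B (ap p₂ B x)) = 0 :=
      (map_add (ap ((mvSeq f a Res W U).g.f n) B) _ _).symm.trans ((congrArg _ e.symm).trans hx)
    have k₁ := ap_congr g₁ B (ap p₁ B x)
    have k₂ := ap_congr g₂ B (ap p₂ B x)
    have hx' : res FP (Res.cocomplex.X n) (secLe f a (inf_le_left : W ⊓ U ≤ W) B) (ap p₁ B x) +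
        -res FP (Res.cocomplex.X n) (secLe f a (inf_le_right : W ⊓ U ≤ U) B) (ap p₂ B x) = 0 :=
      ((congrArg₂ (· + ·) k₁ k₂).symm).trans hx
    obtain ⟨z, h₁, h₂⟩ := mv_glue f a W U (Res.cocomplex.X n) B (ap p₁ B x) (ap p₂ B x) (add_neg_eq_zero.1 hx')
    refine ⟨z, ?_⟩
    show ap ((mvSeq f a Res W U).f.f n) B z = x
    refine (htot B _).symm.trans ((congrArg₂ (· + ·) (congrArg (ap i₁ B) ?_) (congrArg (ap i₂ B) ?_)).trans (htot B x))
    · exact (ap_congr e₁ B z).trans h₁
    · exact (ap_congr e₂ B z).trans h₂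
  · exact mv_ext f a W U (Res.cocomplex.X n) B z z'
      ((ap_congr e₁ B z).symm.trans ((congrArg (ap p₁ B) h).trans (ap_congr e₁ B z')))
      ((ap_congr e₂ B z).symm.trans ((congrArg (ap p₂ B) h).trans (ap_congr e₂ B z')))
  · obtain ⟨x, hx⟩ := res_surjective_of_injective (Res.cocomplex.X n) (secLe f a (inf_le_left : W ⊓ U ≤ W) B) y
    exact ⟨ap i₁ B x, (ap_congr g₁ B x).trans hx⟩

end MV

end

end Groth.L23.BigCech
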