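import Groth.Agent.L23.BigCech.Resolution
import Groth.Agent.L23.AdeqSite.Push

/-!
# Sections over the preimages of an open of a base change
-/

universe u

open CategoryTheory Limits Opposite AlgebraicGeometry TensorProduct

set_option backward.isDefEq.respectTransparency.types false
set_option linter.style.haveILetI false

namespace Groth.L23.BigCech

open Groth.L23.Adq _root_.Adeq

noncomputable section

local notation "Kf" => Scheme.fppfPrecoverage

variable {S T : Scheme.{u}} (f : T ⟶ S) {R : CommRingCat.{u}} (a : Spec R ⟶ S) (W : (pullback a f).Opens)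

/-- The preimage of an open in the base change to an algebra, over `T`. -/
abbrev secObj (B : Alg R) : Over T :=
  Over.mk ((piMap f a B ⁻¹ᵁ W).ι ≫ pullback.snd (algSpec (B : Type u) ≫ a) f)

/-- The inclusion into the base change. -/
def incl (B : Alg R) : secObj f a W B ⟶ pbObj f a B :=
  Over.homMk (U := secObj f a W B) (V := Over.mk (pullback.snd (algSpec (B : Type u) ≫ a) f))
    (piMap f a B ⁻¹ᵁ W).ι rfl

instance (B : Alg R) : Mono (incl f a W B) := by
  haveI : Mono (incl f a W B).left := inferInstanceAs (Mono (piMap f a B ⁻¹ᵁ W).ι)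
  exact Over.mono_of_mono_left _

/-- The map of base changes of a map of algebras. -/
abbrev pbMap {B B' : Alg R} (g : B ⟶ B') : pbObj f a B' ⟶ pbObj f a B := (Over.pullback f).map (soMap a g)

theorem pbMap_fst {B B' : Alg R} (g : B ⟶ B') :
    (pbMap f a g).left ≫ pullback.fst (algSpec (B : Type u) ≫ a) f =
      pullback.fst (algSpec (B' : Type u) ≫ a) f ≫ Spec.map (CommRingCat.ofHom g.hom.toRingHom) :=
  pullback.lift_fst _ _ _

/-- The map of base changes, as a map of pullbacks. -/
abbrev pbLeft {B B' : Alg R} (g : B ⟶ B') :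
    pullback (algSpec (B' : Type u) ≫ a) f ⟶ pullback (algSpec (B : Type u) ≫ a) f := (pbMap f a g).left

theorem pbMap_piMap {B B' : Alg R} (g : B ⟶ B') : pbLeft f a g ≫ piMap f a B = piMap f a B' := by
  have h : Spec.map (CommRingCat.ofHom g.hom.toRingHom) ≫ algSpec (R := R) (B : Type u) = algSpec (R := R) (B' : Type u) :=
    (Spec.map_comp _ _).symm.trans (congrArg (fun k => Spec.map (CommRingCat.ofHom k)) g.hom.comp_algebraMap)
  have h₁ : pbLeft f a g ≫ pullback.fst (algSpec (B : Type u) ≫ a) f =
      pullback.fst (algSpec (B' : Type u) ≫ a) f ≫ Spec.map (CommRingCat.ofHom g.hom.toRingHom) := pullback.lift_fst _ _ _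
  have h₂ : pbLeft f a g ≫ pullback.snd (algSpec (B : Type u) ≫ a) f = pullback.snd (algSpec (B' : Type u) ≫ a) f :=
    pullback.lift_snd _ _ _
  refine pullback.hom_ext ?_ ?_
  · rw [Category.assoc, pullback.lift_fst, pullback.lift_fst, ← Category.assoc, h₁, Category.assoc, h]
  · rw [Category.assoc, pullback.lift_snd, pullback.lift_snd, h₂]

/-- The map of preimages of a map of algebras. -/
def secMap {B B' : Alg R} (g : B ⟶ B') : secObj f a W B' ⟶ secObj f a W B :=
  Over.homMk (U := secObj f a W B') (V := secObj f a W B)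
    ((pbMap f a g).left.resLE (piMap f a B ⁻¹ᵁ W) (piMap f a B' ⁻¹ᵁ W) (fun x hx => by
      show piMap f a B (pbLeft f a g x) ∈ W
      exact ((Scheme.Hom.comp_apply (pbLeft f a g) (piMap f a B) x).symm.trans
        (congrArg (fun k => k x) (pbMap_piMap f a g))) ▸ hx))
    ((Category.assoc _ _ _).symm.trans ((congrArg (· ≫ pullback.snd _ f) (Scheme.Hom.resLE_comp_ι _ _)).trans
      ((Category.assoc _ _ _).trans (congrArg (_ ≫ ·) (Over.w (pbMap f a g))))))

theorem secMap_incl {B B' : Alg R} (g : B ⟶ B') :
    secMap f a W g ≫ incl f a W B = incl f a W B' ≫ pbMap f a g :=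
  Over.OverMorphism.ext (Scheme.Hom.resLE_comp_ι _ _)

/-- The preimages, functorially. -/
def secFun : (Alg R)ᵒᵖ ⥤ Over T where
  obj B := secObj f a W B.unop
  map g := secMap f a W g.unop
  map_id B := by
    rw [← cancel_mono (incl f a W B.unop), secMap_incl, Category.id_comp]
    refine (congrArg (incl f a W B.unop ≫ ·) ?_).trans (Category.comp_id _)
    exact ((specOver a) ⋙ Over.pullback f).map_id B
  map_comp {B B' B''} g h := by
    rw [← cancel_mono (incl f a W B''.unop), Category.assoc, secMap_incl, secMap_incl, ← Category.assoc,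
      secMap_incl, Category.assoc]
    exact congrArg (incl f a W B.unop ≫ ·) (((specOver a) ⋙ Over.pullback f).map_comp g h)

/-- The projection to the spectrum of the algebra. -/
abbrev sfst (B : Alg R) : (secObj f a W B).left ⟶ Spec (CommRingCat.of (B : Type u)) :=
  (piMap f a B ⁻¹ᵁ W).ι ≫ pullback.fst (algSpec (B : Type u) ≫ a) f

/-- An algebra maps to the functions on the preimage. -/
def toSec (B : Alg R) : (B : Type u) →+* (BigSite.ORing Kf T).obj.obj (op (secObj f a W B)) :=
  (ULift.ringEquiv.symm :
      Γ((secObj f a W B).left, ⊤) ≃+* ULift.{u + 1} Γ((secObj f a W B).left, ⊤)).toRingHom.comp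
    (((sfst f a W B).appTop).hom.comp (Scheme.ΓSpecIso (CommRingCat.of (B : Type u))).inv.hom)

theorem secMap_sfst {B B' : Alg R} (g : B ⟶ B') :
    (secMap f a W g).left ≫ sfst f a W B = sfst f a W B' ≫ Spec.map (CommRingCat.ofHom g.hom.toRingHom) :=
  (Category.assoc _ _ _).symm.trans ((congrArg (· ≫ pullback.fst _ _) (Scheme.Hom.resLE_comp_ι _ _)).trans
    ((Category.assoc _ _ _).trans ((congrArg (_ ≫ ·) (pbMap_fst f a g)).trans (Category.assoc _ _ _).symm)))

theorem toSec_naturality {B B' : Alg R} (g : B ⟶ B') (b : B) :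
    (BigSite.ORing Kf T).obj.map (secMap f a W g).op (toSec f a W B b) = toSec f a W B' (g.hom b) := by
  refine ULift.ext _ _ ?_
  show (secMap f a W g).left.appTop ((sfst f a W B).appTop ((Scheme.ΓSpecIso (CommRingCat.of (B : Type u))).inv b)) =
    (sfst f a W B').appTop ((Scheme.ΓSpecIso (CommRingCat.of (B' : Type u))).inv (g.hom b))
  refine ((ConcreteCategory.congr_hom (Scheme.Hom.comp_appTop _ _).symm _).trans
    (ConcreteCategory.congr_hom (congrArg Scheme.Hom.appTop (secMap_sfst f a W g)) _)).trans ?_
  refine (ConcreteCategory.congr_hom (Scheme.Hom.comp_appTop _ _) _).trans ?_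
  exact congrArg (sfst f a W B').appTop
    (ConcreteCategory.congr_hom (Scheme.ΓSpecIso_inv_naturality (CommRingCat.ofHom g.hom.toRingHom)).symm b)

/-- The abelian groups of sections over preimages. -/
def secAb (M : BigSite.Mod Kf T) : (Alg R)ᵒᵖᵒᵖ ⥤ Ab.{u + 1} :=
  (secFun f a W).op ⋙ M.val.presheaf

instance secModuleO (M : BigSite.Mod Kf T) (X : (Alg R)ᵒᵖᵒᵖ) :
    Module ((BigSite.ORing Kf T).obj.obj (op (secObj f a W X.unop.unop))) ((secAb f a W M).obj X) :=
  (M.val.obj (op (secObj f a W X.unop.unop))).isModule

instance secModule (M : BigSite.Mod Kf T) (X : (Alg R)ᵒᵖᵒᵖ) :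
    Module X.unop.unop ((secAb f a W M).obj X) :=
  Module.compHom ((secAb f a W M).obj X) (toSec f a W X.unop.unop)

/-- The value of `secG` at a module. -/
def secMVF (M : BigSite.Mod Kf T) : MVF R :=
  PresheafOfModules.ofPresheaf (secAb f a W M) (by
    intro X Y g r m
    refine (M.val.map_smul (secMap f a W g.unop.unop).op (toSec f a W X.unop.unop r) m).trans ?_
    exact congrArg (· • _) (toSec_naturality f a W g.unop.unop r))

/-- Functoriality of `secMVF`. -/
def secMVFMap {M N : BigSite.Mod Kf T} (ψ : M ⟶ N) : secMVF f a W M ⟶ secMVF f a W N :=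
  PresheafOfModules.homMk
    (Functor.whiskerLeft (secFun f a W).op ((PresheafOfModules.toPresheaf (BigSite.ORing Kf T).obj).map ψ.val))
    (by
      intro X r m
      exact (ψ.val.app (op (secObj f a W X.unop.unop))).hom.map_smul (toSec f a W X.unop.unop r) m)

/-- Sections over the preimages of an open, as a functor. -/
def secG : BigSite.Mod Kf T ⥤ MVF R where
  obj M := secMVF f a W M
  map ψ := secMVFMap f a W ψ
  map_id M := by ext X x; rfl
  map_comp ψ ψ' := by ext X x; rfl

instance : (secG f a W).Additive where
  map_add := by intros; ext X x; rfl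

theorem secG_map_apply {M N : BigSite.Mod Kf T} (ψ : M ⟶ N) (B : Alg R) (x : BigSite.sectMod Kf M (secObj f a W B)) :
    ap ((secG f a W).map ψ) B x = ψ.val.app (op (secObj f a W B)) x := rfl

variable {W}

theorem preLe {W' : (pullback a f).Opens} (h : W ≤ W') (B : Alg R) : piMap f a B ⁻¹ᵁ W ≤ piMap f a B ⁻¹ᵁ W' :=
  fun _ hx => h hx

/-- The inclusion of preimages. -/
def secLe {W' : (pullback a f).Opens} (h : W ≤ W') (B : Alg R) : secObj f a W B ⟶ secObj f a W' B :=
  Over.homMk (U := secObj f a W B) (V := secObj f a W' B)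
    ((pullback (algSpec (B : Type u) ≫ a) f).homOfLE (preLe f a h B))
    ((Category.assoc _ _ _).symm.trans (congrArg (· ≫ pullback.snd _ f) (Scheme.homOfLE_ι _ (preLe f a h B))))

theorem secLe_incl {W' : (pullback a f).Opens} (h : W ≤ W') (B : Alg R) :
    secLe f a h B ≫ incl f a W' B = incl f a W B :=
  Over.OverMorphism.ext (Scheme.homOfLE_ι _ (preLe f a h B))

instance {W' : (pullback a f).Opens} (h : W ≤ W') (B : Alg R) : Mono (secLe f a h B) := by
  haveI : Mono (secLe f a h B ≫ incl f a W' B) := by
    rw [secLe_incl]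
    infer_instance
  exact mono_of_mono (secLe f a h B) (incl f a W' B)

/-- Restriction to a smaller open. -/
def secRes {W' : (pullback a f).Opens} (h : W ≤ W') : secG f a W' ⟶ secG f a W where
  app M := mkHom
    (fun B =>
      { toFun := fun x => res FP M (secLe f a h B) x
        map_add' := fun x y => map_add (res FP M (secLe f a h B)) x y
        map_smul' := fun b x => by
          refine (res_smul FP M (secLe f a h B) (toSec f a W' B b) x).trans ?_
          refine congrArg (· • res FP M _ x) (ULift.ext _ _ ?_)
          exact (ConcreteCategory.congr_hom (Scheme.Hom.comp_appTop (secLe f a h B).left (sfst f a W' B)).symm _).trans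
            (ConcreteCategory.congr_hom (congrArg Scheme.Hom.appTop ((Category.assoc _ _ _).symm.trans
              (congrArg (· ≫ pullback.fst _ _) (Scheme.homOfLE_ι _ (preLe f a h B))))) _) })
    fun B B' g x => by
      show res FP M _ (res FP M _ x) = res FP M _ (res FP M _ x)
      rw [← res_comp, ← res_comp]
      refine congrArg (fun t => res FP M t x) ?_
      show secLe f a h B' ≫ secMap f a W' g = secMap f a W g ≫ secLe f a h B
      rw [← cancel_mono (incl f a W' B), Category.assoc, Category.assoc, secMap_incl, secLe_incl, secMap_incl,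
        ← Category.assoc, secLe_incl]
  naturality M N ψ := hom_ext' fun B x => (PresheafOfModules.naturality_apply ψ.val (secLe f a h B).op x).symm

theorem secRes_apply {W' : (pullback a f).Opens} (h : W ≤ W') (M : BigSite.Mod Kf T) (B : Alg R)
    (x : BigSite.sectMod Kf M (secObj f a W' B)) :
    ap ((secRes f a h).app M) B x = res FP M (secLe f a h B) x := rfl

variable (W)

instance isIso_incl_top (B : Alg R) : IsIso (incl f a ⊤ B) := by
  haveI : IsIso (incl f a ⊤ B).left := inferInstanceAs (IsIso (pullback (algSpec (B : Type u) ≫ a) f).topIso.hom)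
  haveI : IsIso ((Over.forget T).map (incl f a ⊤ B)) := this
  exact isIso_of_reflects_iso _ (Over.forget T)

/-- Restriction of the sections of a direct image to the whole base change. -/
def topHom (M : BigSite.Mod Kf T) :
    (toMVF Kf a).obj ((BigSite.pushMod Kf f).obj M) ⟶ (secG f a ⊤).obj M :=
  mkHom
    (fun B =>
      { toFun := fun x => res FP M (incl f a ⊤ B) x
        map_add' := fun x y => map_add (res FP M (incl f a ⊤ B)) x y
        map_smul' := fun b x => by
          refine (res_smul FP M (incl f a ⊤ B) ((BigSite.ORingAbs Kf).obj.map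
            (pullback.fst (algSpec (B : Type u) ≫ a) f).op (toSect Kf a B b)) x).trans ?_
          refine congrArg (· • res FP M _ x) (ULift.ext _ _ ?_)
          exact (ConcreteCategory.congr_hom (Scheme.Hom.comp_appTop (piMap f a B ⁻¹ᵁ ⊤).ι
            (pullback.fst (algSpec (B : Type u) ≫ a) f)).symm _) })
    fun B B' g x => by
      show res FP M _ (res FP M _ x) = res FP M _ (res FP M _ x)
      rw [← res_comp, ← res_comp]
      exact congrArg (fun t => res FP M t x) (secMap_incl f a ⊤ g).symm

theorem topHom_bijective (M : BigSite.Mod Kf T) (B : Alg R) : Function.Bijective (ap (topHom f a M) B) :=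
  Function.bijective_iff_has_inverse.2 ⟨fun y => res FP M (inv (incl f a ⊤ B)) y,
    fun x => by
      show res FP M _ (res FP M _ x) = x
      exact (res_comp FP M _ _ x).symm.trans ((congrArg (fun t => res FP M t x)
        (IsIso.inv_hom_id (incl f a ⊤ B))).trans (res_id FP M x)),
    fun y => by
      show res FP M _ (res FP M _ y) = y
      exact (res_comp FP M _ _ y).symm.trans ((congrArg (fun t => res FP M t y)
        (IsIso.hom_inv_id (incl f a ⊤ B))).trans (res_id FP M y))⟩

/-- Sections over the whole base change are the sections of the direct image. -/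
def topIso : BigSite.pushMod Kf f ⋙ toMVF Kf a ≅ secG f a ⊤ :=
  NatIso.ofComponents (fun M => @asIso _ _ _ _ (topHom f a M) (isIso_of_bijective _ (topHom_bijective f a M)))
    fun {M N} ψ => hom_ext' fun B x => (PresheafOfModules.naturality_apply ψ.val (incl f a ⊤ B).op x).symm

/-- The base algebra. -/
abbrev selfAlg (R : CommRingCat.{u}) : Alg R := CommAlgCat.of R R

theorem flat_secObj (ha : Flat a) : Flat (secObj f a W (selfAlg R)).hom := by
  haveI : IsIso (algSpec (R := R) R) := by
    show IsIso (Spec.map (CommRingCat.ofHom (RingHom.id (R : Type u))))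
    haveI : IsIso (CommRingCat.ofHom (RingHom.id (R : Type u))) := inferInstanceAs (IsIso (𝟙 R))
    exact inferInstanceAs (IsIso (Scheme.Spec.map (CommRingCat.ofHom (RingHom.id (R : Type u))).op))
  haveI : Flat (algSpec (R := R) R ≫ a) := inferInstance
  exact inferInstanceAs (Flat ((piMap f a (selfAlg R) ⁻¹ᵁ W).ι ≫ pullback.snd (algSpec (R := R) R ≫ a) f))

variable {W}

theorem isAffine_secObj (hW : IsAffineOpen W) (B : Alg R) : IsAffine (secObj f a W B).left := by
  haveI : IsAffineHom (piMap f a B) :=
    MorphismProperty.of_isPullback (P := @IsAffineHom) (isPullback_piMap f a B).flip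
      (inferInstanceAs (IsAffineHom (algSpec (R := R) (B : Type u))))
  exact hW.preimage (piMap f a B)

end

end Groth.L23.BigCech
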