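import Groth.Agent.L23.AdeqSite.Fppf
import Mathlib.AlgebraicGeometry.Limits

/-!
# Finite products of rings, geometrically; gluing sections of abelian sheaves on the big fppf site
-/

universe u

open CategoryTheory Limits Opposite AlgebraicGeometry

set_option backward.isDefEq.respectTransparency.types false
set_option linter.style.haveILetI false

namespace Groth.L23.BigCech

open Groth.L23.Adq

noncomputable section

section Product

variable {κ : Type u} [Fintype κ] (C : κ → Type u) [∀ k, CommRing (C k)]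

/-- The inclusion of a component. -/
abbrev piIncl (k : κ) : Spec (CommRingCat.of (C k)) ⟶ Spec (CommRingCat.of (∀ i, C i)) :=
  Spec.map (CommRingCat.ofHom (Pi.evalRingHom C k))

instance isOpenImmersion_piIncl (k : κ) : IsOpenImmersion (piIncl C k) := by
  have h : piIncl C k = Sigma.ι (fun i => Spec (CommRingCat.of (C i))) k ≫ sigmaSpec fun i => CommRingCat.of (C i) :=
    (ι_sigmaSpec (fun i => CommRingCat.of (C i)) k).symm
  rw [h]
  infer_instance

theorem piIncl_surj (x : ↥(Spec (CommRingCat.of (∀ i, C i)))) : ∃ k y, piIncl C k y = x := by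
  obtain ⟨z, hz⟩ := (Scheme.Hom.surjective (sigmaSpec fun i => CommRingCat.of (C i))) x
  obtain ⟨⟨k, y⟩, rfl⟩ := (sigmaMk (fun i => Spec (CommRingCat.of (C i)))).surjective z
  refine ⟨k, y, ?_⟩
  rw [← hz, sigmaMk_mk]
  have h := congrArg (fun t => t y) (ι_sigmaSpec (fun i => CommRingCat.of (C i)) k)
  exact h.symm

omit [Fintype κ] in
theorem piIncl_disjoint {k l : κ} (h : k ≠ l) (y : ↥(Spec (CommRingCat.of (C k))))
    (y' : ↥(Spec (CommRingCat.of (C l)))) : piIncl C k y ≠ piIncl C l y' := by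
  classical
  intro e
  have h1 : Pi.single k (1 : C k) ∉ (piIncl C k y).asIdeal := by
    show Pi.evalRingHom C k (Pi.single k 1) ∉ y.asIdeal
    rw [Pi.evalRingHom_apply, Pi.single_eq_same]
    exact y.asIdeal.ne_top_iff_one.1 y.2.ne_top
  refine h1 ?_
  rw [e]
  show Pi.evalRingHom C l (Pi.single k 1) ∈ y'.asIdeal
  rw [Pi.evalRingHom_apply, Pi.single_eq_of_ne (Ne.symm h)]
  exact y'.asIdeal.zero_mem

/-- The open cover by the components. -/
def piCover : (Spec (CommRingCat.of (∀ i, C i))).OpenCover :=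
  Scheme.Cover.mkOfCovers κ (fun k => Spec (CommRingCat.of (C k))) (piIncl C) (piIncl_surj C)
    fun k => isOpenImmersion_piIncl C k

variable {R : CommRingCat.{u}} [∀ k, Algebra R (C k)]

theorem fp_pi (hC : ∀ k, FP (Spec.map (CommRingCat.ofHom (algebraMap R (C k))))) :
    FP (Spec.map (CommRingCat.ofHom (algebraMap R (∀ i, C i)))) := by
  have e : ∀ k, (piCover C).f k ≫ Spec.map (CommRingCat.ofHom (algebraMap R (∀ i, C i))) =
      Spec.map (CommRingCat.ofHom (algebraMap R (C k))) := fun k => (Spec.map_comp _ _).symm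
  exact ⟨IsZariskiLocalAtSource.of_openCover (P := @Flat) (piCover C) fun k => (e k).symm ▸ (hC k).1,
    IsZariskiLocalAtSource.of_openCover (P := @LocallyOfFinitePresentation) (piCover C)
      fun k => (e k).symm ▸ (hC k).2⟩

end Product

section Glue

variable {X : Scheme.{u}}

local notation "Kf" => Scheme.fppfPrecoverage

/-- Restriction of sections of an abelian sheaf. -/
def rs (F : BigSite.Ab Kf X) {U V : Over X} (f : U ⟶ V) : F.obj.obj (op V) →+ F.obj.obj (op U) :=
  (F.obj.map f.op).hom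

theorem rs_comp (F : BigSite.Ab Kf X) {U V W : Over X} (f : U ⟶ V) (g : V ⟶ W) (x : F.obj.obj (op W)) :
    rs F (f ≫ g) x = rs F f (rs F g x) :=
  ConcreteCategory.congr_hom (F.obj.map_comp g.op f.op) x

theorem rs_id (F : BigSite.Ab Kf X) {U : Over X} (x : F.obj.obj (op U)) : rs F (𝟙 U) x = x :=
  ConcreteCategory.congr_hom (F.obj.map_id (op U)) x

theorem rs_natural {F G : BigSite.Ab Kf X} (φ : F ⟶ G) {U V : Over X} (f : U ⟶ V) (x : F.obj.obj (op V)) :
    φ.hom.app (op U) (rs F f x) = rs G f (φ.hom.app (op V) x) :=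
  NatTrans.naturality_apply φ.hom f.op x

theorem exists_glue_ab (F : BigSite.Ab Kf X) {T : Over X} {ι : Type u} (U : ι → Over X) (g : ∀ i, U i ⟶ T)
    (hP : ∀ i, FP (g i).left) (hs : ∀ t : ↥T.left, ∃ i y, (g i).left y = t) (x : ∀ i, F.obj.obj (op (U i)))
    (hx : ∀ i j (W : Over X) (a : W ⟶ U i) (b : W ⟶ U j), a ≫ g i = b ≫ g j → rs F a (x i) = rs F b (x j)) :
    ∃ y : F.obj.obj (op T), ∀ i, rs F (g i) y = x i := by
  have hF := (isSheaf_iff_isSheaf_of_type _ _).1
    ((Presheaf.isSheaf_iff_isSheaf_forget _ _ (forget AddCommGrpCat.{u + 1})).1 F.property)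
  obtain ⟨y, hy, -⟩ := (Presieve.isSheafFor_arrows_iff _ _).1
    ((Presieve.isSheafFor_iff_generate _).2 (hF _ (ofArrows_mem_overJ FP U g hP hs))) x hx
  exact ⟨y, hy⟩

theorem eq_of_rs_eq (F : BigSite.Ab Kf X) {T : Over X} {ι : Type u} (U : ι → Over X) (g : ∀ i, U i ⟶ T)
    (hP : ∀ i, FP (g i).left) (hs : ∀ t : ↥T.left, ∃ i y, (g i).left y = t) (y y' : F.obj.obj (op T))
    (h : ∀ i, rs F (g i) y = rs F (g i) y') : y = y' := by
  have hF := (isSheaf_iff_isSheaf_of_type _ _).1
    ((Presheaf.isSheaf_iff_isSheaf_forget _ _ (forget AddCommGrpCat.{u + 1})).1 F.property)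
  exact ((Presieve.isSheafFor_iff_generate _).2 (hF _ (ofArrows_mem_overJ FP U g hP hs))).isSeparatedFor.ext
    fun V f ⟨i⟩ => h i

theorem eq_of_isEmpty (F : BigSite.Ab Kf X) {T : Over X} [IsEmpty T.left] (y y' : F.obj.obj (op T)) : y = y' :=
  eq_of_rs_eq F (PEmpty.elim : PEmpty.{u + 1} → Over X) (fun i => i.elim) (fun i => i.elim)
    (fun t => isEmptyElim t) y y' fun i => i.elim

end Glue

end

end Groth.L23.BigCech
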