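import Groth.Agent.L23.BigCech.Injective
import Groth.Agent.L23.BigCech.Adequate
import Groth.Agent.L23.AdeqSite.Colim
import Groth.Agent.L23.AdeqSite.Exact
import Mathlib.CategoryTheory.Abelian.RightDerived

/-!
# Injective resolutions of Čech acyclic modules on the big fppf site
-/

universe u

open CategoryTheory Limits Opposite AlgebraicGeometry

set_option backward.isDefEq.respectTransparency.types false
set_option linter.style.haveILetI false

namespace Groth.L23.BigCech

open Groth.L23.Adq _root_.Adeq

noncomputable section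

local notation "Kf" => Scheme.fppfPrecoverage

variable {T : Scheme.{u}}

instance : (PresheafOfModules.sheafification.{u + 1} (𝟙 (BigSite.ORing Kf T).obj)).PreservesMonomorphisms :=
  inferInstance

theorem injective_preF (I : BigSite.Mod Kf T) [Injective I] : Injective ((preF (S := T)).obj I) :=
  Injective.injective_of_adjoint (PresheafOfModules.sheafificationAdjunction (𝟙 (BigSite.ORing Kf T).obj)) I

/-- Injective modules are Čech acyclic. -/
theorem acyc_injective (I : BigSite.Mod Kf T) [Injective I] : Acyc ((BigSite.toAbMod Kf T).obj I) := by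
  intro R c B _ _ _ _
  haveI := injective_preF I
  exact Inj.acyclic (P := (preF (S := T)).obj I) (cHom c B)

/-- Sections of injective modules extend along monomorphisms. -/
theorem res_surjective_of_injective (I : BigSite.Mod Kf T) [Injective I] {V W : Over T} (f : V ⟶ W) [Mono f] :
    Function.Surjective (res FP I f) := by
  haveI := injective_preF I
  exact Inj.surjective_of_mono (P := (preF (S := T)).obj I) f

theorem toAbMod_shortExact {S : ShortComplex (BigSite.Mod Kf T)} (hS : S.ShortExact) :
    (S.map (BigSite.toAbMod Kf T)).ShortExact := by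
  haveI := hS.mono_f
  haveI := hS.epi_g
  haveI : PreservesFiniteLimits (BigSite.toAbMod Kf T) := inferInstance
  haveI : Epi ((BigSite.toAbMod Kf T).map S.g) := by
    refine (Sheaf.isLocallySurjective_iff_epi' _ _).1 ⟨fun {U} x => ?_⟩
    let S' : ShortComplex (BigSite.Mod Kf T) := ShortComplex.mk S.g (0 : S.X₃ ⟶ S.X₃) comp_zero
    have hS' : S'.Exact := (ShortComplex.exact_iff_epi S' rfl).2 (inferInstanceAs (Epi S.g))
    obtain ⟨V, hV, hV'⟩ := exists_local_lift S' hS' U x rfl
    refine GrothendieckTopology.superset_covering _ (fun Y f hf => ?_) hV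
    exact hV' f hf
  exact { exact := hS.exact.map_of_mono_of_preservesKernel _ inferInstance inferInstance
          mono_f := inferInstanceAs (Mono ((BigSite.toAbMod Kf T).map S.f))
          epi_g := inferInstanceAs (Epi ((BigSite.toAbMod Kf T).map S.g)) }

variable {M : BigSite.Mod Kf T} (Res : InjectiveResolution M)

/-- The cycles of a resolution. -/
abbrev cyc (n : ℕ) : BigSite.Mod Kf T := kernel (Res.cocomplex.d n (n + 1))

/-- The sequence of cycles. -/
abbrev cycSeq (n : ℕ) : ShortComplex (BigSite.Mod Kf T) :=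
  ShortComplex.mk (kernel.ι (Res.cocomplex.d n (n + 1)))
    (kernel.lift (Res.cocomplex.d (n + 1) (n + 2)) (Res.cocomplex.d n (n + 1)) (Res.complex_d_comp n))
    (by rw [← cancel_mono (kernel.ι (Res.cocomplex.d (n + 1) (n + 2))), Category.assoc, kernel.lift_ι,
      kernel.condition, zero_comp])

theorem cycSeq_shortExact (n : ℕ) : (cycSeq Res n).ShortExact where
  mono_f := inferInstanceAs (Mono (kernel.ι _))
  epi_g := (ShortComplex.exact_iff_epi_kernel_lift
    (ShortComplex.mk _ _ (Res.complex_d_comp n))).1 (Res.exact_succ n)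
  exact := by
    let φ : cycSeq Res n ⟶
        ShortComplex.mk (kernel.ι (Res.cocomplex.d n (n + 1))) (Res.cocomplex.d n (n + 1)) (kernel.condition _) :=
      { τ₁ := 𝟙 _, τ₂ := 𝟙 _, τ₃ := kernel.ι _
        comm₁₂ := by simp
        comm₂₃ := by simp [kernel.lift_ι] }
    haveI : Epi φ.τ₁ := inferInstanceAs (Epi (𝟙 _))
    haveI : IsIso φ.τ₂ := inferInstanceAs (IsIso (𝟙 _))
    haveI : Mono φ.τ₃ := inferInstanceAs (Mono (kernel.ι _))
    exact (ShortComplex.exact_iff_of_epi_of_isIso_of_mono φ).2
      (ShortComplex.exact_of_f_is_kernel _ (kernelIsKernel _))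

/-- The first cycles are the resolved module. -/
def augIso : M ≅ cyc Res 0 := IsLimit.conePointUniqueUpToIso Res.isLimitKernelFork (limit.isLimit _)

theorem augIso_inv_ι : (augIso Res).inv ≫ Res.ι.f 0 = kernel.ι (Res.cocomplex.d 0 1) :=
  IsLimit.conePointUniqueUpToIso_inv_comp Res.isLimitKernelFork (limit.isLimit _) WalkingParallelPair.zero

theorem acyc_cyc (hM : Acyc ((BigSite.toAbMod Kf T).obj M)) :
    ∀ n, Acyc ((BigSite.toAbMod Kf T).obj (cyc Res n))
  | 0 => by
    let e := augIso Res
    let e' := (BigSite.toAbMod Kf T).mapIso e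
    intro R c B _ _ _ hB n x hx
    obtain ⟨y, hy⟩ := hM R c B hB n (e'.inv.hom.app _ x)
      ((Groth.L28.ProEt.Cech.d_natural (cHom c B) e'.inv.hom (n + 1) x).symm.trans
        ((congrArg (e'.inv.hom.app _) hx).trans (map_zero _)))
    refine ⟨e'.hom.hom.app _ y, ((Groth.L28.ProEt.Cech.d_natural (cHom c B) e'.hom.hom n y).symm.trans
      (congrArg (e'.hom.hom.app _) hy)).trans ?_⟩
    exact ConcreteCategory.congr_hom (congrArg (fun k => k.hom.app _) e'.inv_hom_id) x
  | n + 1 => acyc_X₃ (toAbMod_shortExact (cycSeq_shortExact Res n)) (fun _ c B _ _ m => isAffine_nerve c B m)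
      (acyc_cyc hM n) (acyc_injective (Res.cocomplex.X n))

/-- On affine objects, the sections of a resolution of an acyclic module are exact in positive degrees. -/
theorem exact_sections_affine (hM : Acyc ((BigSite.toAbMod Kf T).obj M)) (U : Over T) [IsAffine U.left] (n : ℕ)
    (x : (Res.cocomplex.X (n + 1)).val.obj (op U)) (hx : (Res.cocomplex.d (n + 1) (n + 2)).val.app (op U) x = 0) :
    ∃ y, (Res.cocomplex.d n (n + 1)).val.app (op U) y = x := by
  obtain ⟨z, rfl⟩ := exists_kernel_section _ (op U) x hx
  obtain ⟨y, hy⟩ := surjective_affine (toAbMod_shortExact (cycSeq_shortExact Res n)) (acyc_cyc Res hM n) U z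
  refine ⟨y, ?_⟩
  rw [← hy]
  exact (congrArg (fun k : Res.cocomplex.X n ⟶ Res.cocomplex.X (n + 1) => k.val.app (op U) y)
    (kernel.lift_ι (Res.cocomplex.d (n + 1) (n + 2)) (Res.cocomplex.d n (n + 1)) (Res.complex_d_comp n))).symm

theorem exists_augmentation (U : Over T) (x : (Res.cocomplex.X 0).val.obj (op U))
    (hx : (Res.cocomplex.d 0 1).val.app (op U) x = 0) : ∃ m, (Res.ι.f 0).val.app (op U) m = x := by
  obtain ⟨z, rfl⟩ := exists_kernel_section _ (op U) x hx
  let e := augIso Res
  refine ⟨e.inv.val.app (op U) z, ?_⟩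
  have h := augIso_inv_ι Res
  exact congrArg (fun k : cyc Res 0 ⟶ Res.cocomplex.X 0 => k.val.app (op U) z) h

end

end Groth.L23.BigCech
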